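import Mathlib
import Cfsg.Agent.S3794
import Cfsg.Agent.S0031
import Cfsg.Agent.Lib.CoprimeGen

/-!
Basic facts on a fixed-point-free automorphism `φ` with `φ ^ 4 = 1`.
-/

set_option autoImplicit false
set_option linter.unusedSectionVars false

namespace CfsgLib.FpfFour

open Cfsg.Agent.S3794 Subgroup
open scoped Pointwise

universe u

variable {G : Type u} [Group G]

/-- `x` is inverted by `φ²`. -/
def Inv (φ : MulAut G) (x : G) : Prop := φ (φ x) = x⁻¹

/-- The centralizer of `φ²`. -/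
def fixA (φ : MulAut G) : Subgroup G where
  carrier := {x | φ (φ x) = x}
  one_mem' := by simp
  mul_mem' := fun {a b} ha hb => by
    show φ (φ (a * b)) = a * b
    rw [map_mul, map_mul, show φ (φ a) = a from ha, show φ (φ b) = b from hb]
  inv_mem' := fun {a} ha => by
    show φ (φ a⁻¹) = a⁻¹
    rw [map_inv, map_inv, show φ (φ a) = a from ha]

theorem mem_fixA {φ : MulAut G} {x : G} : x ∈ fixA φ ↔ φ (φ x) = x := Iff.rfl

/-- `X` is invariant. -/
def IsStable (φ : MulAut G) (X : Subgroup G) : Prop := ∀ x ∈ X, φ x ∈ X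

variable {φ : MulAut G}

theorem Inv.pow {x : G} (hx : Inv φ x) (n : ℕ) : Inv φ (x ^ n) := by
  show φ (φ (x ^ n)) = (x ^ n)⁻¹
  rw [map_pow, map_pow, show φ (φ x) = x⁻¹ from hx, inv_pow]

theorem Inv.map {x : G} (hx : Inv φ x) : Inv φ (φ x) := by
  show φ (φ (φ x)) = (φ x)⁻¹
  rw [show φ (φ x) = x⁻¹ from hx, map_inv]

theorem Inv.conj_fixed {x a : G} (hx : Inv φ x) (ha : a ∈ fixA φ) : Inv φ (a * x * a⁻¹) := by
  show φ (φ (a * x * a⁻¹)) = (a * x * a⁻¹)⁻¹
  rw [map_mul, map_mul, map_mul, map_mul, map_inv, map_inv, mem_fixA.mp ha, show φ (φ x) = x⁻¹ from hx]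
  group

theorem fixA_stable : IsStable φ (fixA φ) := fun x hx => by
  show φ (φ (φ x)) = φ x
  rw [mem_fixA.mp hx]

theorem IsStable.inf {X Y : Subgroup G} (hX : IsStable φ X) (hY : IsStable φ Y) : IsStable φ (X ⊓ Y) :=
  fun x hx => ⟨hX x hx.1, hY x hx.2⟩

theorem IsStable.closure {s : Set G} (hs : ∀ x ∈ s, φ x ∈ Subgroup.closure s) :
    IsStable φ (Subgroup.closure s) := fun x hx =>
  (show Subgroup.closure s ≤ (Subgroup.closure s).comap φ.toMonoidHom from
    (Subgroup.closure_le _).mpr hs) hx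

variable [Finite G]

theorem IsStable.surj {X : Subgroup G} (hX : IsStable φ X) {x : G} (hx : x ∈ X) : ∃ y ∈ X, φ y = x := by
  obtain ⟨⟨y, hy⟩, he⟩ := Finite.surjective_of_injective
    (f := fun u : X => (⟨φ u, hX u u.2⟩ : X)) (fun a b h => Subtype.ext (φ.injective (congrArg Subtype.val h))) ⟨x, hx⟩
  exact ⟨y, hy, congrArg Subtype.val he⟩

theorem IsStable.map_eq {X : Subgroup G} (hX : IsStable φ X) : X.map φ.toMonoidHom = X := by
  refine le_antisymm (Subgroup.map_le_iff_le_comap.mpr hX) fun x hx => ?_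
  obtain ⟨y, hy, rfl⟩ := hX.surj hx
  exact ⟨y, hy, rfl⟩

theorem IsStable.centralizer {X : Subgroup G} (hX : IsStable φ X) :
    IsStable φ (Subgroup.centralizer (X : Set G)) := fun c hc => by
  rw [Subgroup.mem_centralizer_iff] at hc ⊢
  intro x hx
  obtain ⟨y, hy, rfl⟩ := hX.surj hx
  rw [← map_mul, ← map_mul, hc y hy]

theorem IsStable.normalizer {X : Subgroup G} (hX : IsStable φ X) :
    IsStable φ (Subgroup.normalizer (X : Set G)) := fun n hn => by
  rw [Subgroup.mem_normalizer_iff] at hn ⊢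
  intro x
  obtain ⟨y, rfl⟩ := φ.surjective x
  rw [← map_inv, ← map_mul, ← map_mul]
  have key : ∀ z, φ z ∈ X ↔ z ∈ X := fun z => ⟨fun h => by
    obtain ⟨w, hw, he⟩ := hX.surj h
    exact φ.injective he ▸ hw, hX z⟩
  exact (key y).trans ((hn y).trans (key _).symm)

variable (h4 : φ ^ 4 = 1) (hfpf : ∀ g, φ g = g → g = 1)
include h4 hfpf

theorem odd_card : Odd (Nat.card G) := odd_card_of_fpf h4 hfpf

theorem apply_fixA {a : G} (ha : a ∈ fixA φ) : φ a = a⁻¹ :=
  congrArg Subtype.val (inverts_of_fpf (α := autRes φ (fixA φ) fixA_stable)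
    (fun g => Subtype.ext g.2) (fun g hg => Subtype.ext (hfpf g (congrArg Subtype.val hg))) ⟨a, ha⟩)

theorem comm_fixA {a b : G} (ha : a ∈ fixA φ) (hb : b ∈ fixA φ) : a * b = b * a := by
  have h := apply_fixA h4 hfpf ((fixA φ).mul_mem ha hb)
  rw [map_mul, apply_fixA h4 hfpf ha, apply_fixA h4 hfpf hb, ← mul_inv_rev, inv_inj] at h
  exact h.symm

theorem eq_one_of_inv_fixA {x : G} (hx : Inv φ x) (ha : x ∈ fixA φ) : x = 1 :=
  eq_one_of_sq_eq_one (odd_card h4 hfpf) (mul_eq_one_iff_eq_inv.mpr ((mem_fixA.mp ha).symm.trans hx))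

theorem centralizer_fixA_stable {a : G} (ha : a ∈ fixA φ) :
    IsStable φ (Subgroup.centralizer ({a} : Set G)) := fun c hc => by
  rw [Subgroup.mem_centralizer_singleton_iff] at hc ⊢
  have h := congrArg φ hc
  rw [map_mul, map_mul, apply_fixA h4 hfpf ha] at h
  exact (Commute.inv_right_iff.mp (show Commute (φ c) a⁻¹ from h)).eq

omit hfpf in
theorem Inv.exists_sqrt (hodd : Odd (Nat.card G)) {s : G} (hs : Inv φ s) :
    ∃ r : G, r ∈ Subgroup.zpowers s ∧ Inv φ r ∧ r * r = s := by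
  obtain ⟨k, hk⟩ := hodd.of_dvd_nat (orderOf_dvd_natCard s)
  refine ⟨s ^ (k + 1), pow_mem (mem_zpowers s) _, hs.pow _, ?_⟩
  rw [← pow_add, show k + 1 + (k + 1) = orderOf s + 1 by omega, pow_succ, pow_orderOf_eq_one, one_mul]

/-- Every element is an inverted element times a fixed one. -/
theorem decomp {X : Subgroup G} (hX : IsStable φ X) {g : G} (hg : g ∈ X) :
    ∃ i a : G, i ∈ X ∧ Inv φ i ∧ a ∈ X ∧ a ∈ fixA φ ∧ g = i * a := by
  set s := g * (φ (φ g))⁻¹ with hs
  have hsX : s ∈ X := X.mul_mem hg (X.inv_mem (hX _ (hX _ hg)))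
  have hsi : Inv φ s := by
    show φ (φ (g * (φ (φ g))⁻¹)) = (g * (φ (φ g))⁻¹)⁻¹
    rw [map_mul, map_mul, map_inv, map_inv, pow_four_apply h4]
    group
  obtain ⟨r, hr, hri, hrr⟩ := hsi.exists_sqrt h4 (odd_card h4 hfpf)
  have hrX : r ∈ X := (Subgroup.zpowers_le.mpr hsX) hr
  refine ⟨r, r⁻¹ * g, hrX, hri, X.mul_mem (X.inv_mem hrX) hg, ?_, by group⟩
  show φ (φ (r⁻¹ * g)) = r⁻¹ * g
  have e : φ (φ g) = r⁻¹ * r⁻¹ * g := by
    rw [← mul_inv_rev, hrr, hs]; group
  rw [map_mul, map_mul, map_inv, map_inv, show φ (φ r) = r⁻¹ from hri, e]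
  group

/-- `G` does not fuse elements of the centralizer of `φ²`. -/
theorem fusion {a b g : G} (ha : a ∈ fixA φ) (hb : b ∈ fixA φ) (h : g * a * g⁻¹ = b) : a = b := by
  obtain ⟨i, c, -, hi, -, hc, rfl⟩ := decomp h4 hfpf (X := ⊤) (fun _ _ => mem_top _) (mem_top g)
  have e : c * a * c⁻¹ = a := by rw [comm_fixA h4 hfpf hc ha, mul_inv_cancel_right]
  have h1 : i * a * i⁻¹ = b := by
    rw [← h]
    calc i * a * i⁻¹ = i * (c * a * c⁻¹) * i⁻¹ := by rw [e]
      _ = i * c * a * (i * c)⁻¹ := by group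
  have h2 : i⁻¹ * a * i = b := by
    have h3 := congrArg (fun x => φ (φ x)) h1
    simp only [map_mul, map_inv, mem_fixA.mp ha, mem_fixA.mp hb, show φ (φ i) = i⁻¹ from hi, inv_inv] at h3
    exact h3
  have h5 : i * i * a = a * (i * i) := by
    calc i * i * a = i * (i * a * i⁻¹) * i := by group
      _ = i * (i⁻¹ * a * i) * i := by rw [h1, h2]
      _ = a * (i * i) := by group
  obtain ⟨k, hk⟩ := (odd_card h4 hfpf).of_dvd_nat (orderOf_dvd_natCard i)
  have h6 : i * a = a * i := by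
    have h7 := (show Commute (i * i) a from h5).pow_left (k + 1)
    rw [← pow_two, ← pow_mul, show 2 * (k + 1) = orderOf i + 1 by omega, pow_succ, pow_orderOf_eq_one,
      one_mul] at h7
    exact h7
  rw [← h1, h6, mul_inv_cancel_right]

end CfsgLib.FpfFour
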