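import Mathlib
import Cfsg.Agent.Lib.CharTheory.Schur
import Cfsg.Agent.Lib.CharTheory.Induced
import Cfsg.Agent.Lib.CharTheory.Linear
import Cfsg.Agent.Lib.CharTheory.More

/-!
A perfect group of odd order has no involutory automorphism with abelian, regular centralizer data.
-/

set_option autoImplicit false
set_option linter.unusedSectionVars false

namespace CfsgLib.FpfFour

open Cfsg CfsgLib.CharTheory
open scoped ComplexConjugate

universe u

variable {Γ : Type u} [Group Γ] [Fintype Γ] (G : Subgroup Γ) [G.Normal] (t : Γ) (A : Subgroup Γ)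

/-- The data of the counting argument. -/
structure Config : Prop where
  idx : G.index = 2
  odd : Odd (Nat.card G)
  tG : t ∉ G
  tt : t * t = 1
  hA : A = G ⊓ Subgroup.centralizer ({t} : Set Γ)
  perf : ⁅G, G⁆ = G
  hab : ∀ a ∈ A, ∀ b ∈ A, a * b = b * a
  hfus : ∀ a ∈ A, ∀ b ∈ A, ∀ g ∈ G, g * a * g⁻¹ = b → a = b

variable {G t A}

theorem Config.tinv (hc : Config G t A) : t⁻¹ = t := inv_eq_of_mul_eq_one_right hc.tt

theorem Config.le (hc : Config G t A) : A ≤ G := hc.hA ▸ inf_le_left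

theorem Config.comm_t (hc : Config G t A) {a : Γ} (ha : a ∈ A) : a * t = t * a := by
  rw [hc.hA] at ha
  exact Subgroup.mem_centralizer_singleton_iff.mp ha.2

theorem Config.mul_t_mem (hc : Config G t A) {x : Γ} (hx : x ∉ G) : x * t ∈ G := by
  rw [Subgroup.mul_mem_iff_of_index_two hc.idx]
  exact iff_of_false hx hc.tG

theorem Config.not_mem (hc : Config G t A) {g : Γ} (hg : g ∈ G) : g * t ∉ G := fun h =>
  hc.tG (by simpa using G.mul_mem (G.inv_mem hg) h)

/-- Fusion in `Γ` among elements of `A` is trivial. -/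
theorem Config.fusion (hc : Config G t A) {a b x : Γ} (ha : a ∈ A) (hb : b ∈ A) (h : x * a * x⁻¹ = b) : a = b := by
  by_cases hx : x ∈ G
  · exact hc.hfus a ha b hb x hx h
  refine hc.hfus a ha b hb (x * t) (hc.mul_t_mem hx) ?_
  rw [← h, mul_inv_rev, show x * t * a * (t⁻¹ * x⁻¹) = x * (t * a * t⁻¹) * x⁻¹ by group, ← hc.comm_t ha,
    mul_inv_cancel_right]

theorem Config.eq_one_of_inverted (hc : Config G t A) {b : Γ} (hb : b ∈ A) (h : b = b⁻¹) : b = 1 := by
  have h2 : (⟨b, hc.le hb⟩ : G) ^ 2 = 1 := Subtype.ext (by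
    show b ^ 2 = 1
    rw [pow_two]; nth_rewrite 2 [h]; exact mul_inv_cancel b)
  exact congrArg Subtype.val (orderOf_eq_one_iff.mp (Nat.eq_one_of_dvd_coprimes (Nat.coprime_two_right.mpr hc.odd)
    (_root_.orderOf_dvd_natCard _) (orderOf_dvd_of_pow_eq_one h2)))

theorem Config.sqrt_unique (hc : Config G t A) {a b : Γ} (ha : a ∈ A) (hb : b ∈ A) (h : a * a = b * b) :
    a = b := by
  have h2 : (a * b⁻¹) * (a * b⁻¹) = 1 := by
    rw [show (a * b⁻¹) * (a * b⁻¹) = a * (b⁻¹ * a) * b⁻¹ by group, hc.hab b⁻¹ (A.inv_mem hb) a ha,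
      show a * (a * b⁻¹) * b⁻¹ = (a * a) * (b * b)⁻¹ by group, h, mul_inv_cancel]
  exact mul_inv_eq_one.mp (hc.eq_one_of_inverted (A.mul_mem ha (A.inv_mem hb)) (eq_inv_of_mul_eq_one_left h2))

theorem Config.sum_split (hc : Config G t A) [Fintype G] (F : Γ → ℂ) :
    ∑ x : Γ, F x = ∑ g : G, F g + ∑ g : G, F ((g : Γ) * t) := by
  classical
  rw [← Finset.sum_filter_add_sum_filter_not Finset.univ (· ∈ G)]
  congr 1
  · exact Finset.sum_subtype (p := (· ∈ G)) _ (fun y => by simp) F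
  · refine Finset.sum_bij' (fun x hx => ⟨x * t, hc.mul_t_mem (Finset.mem_filter.mp hx).2⟩)
      (fun g _ => (g : Γ) * t) (fun _ _ => Finset.mem_univ _)
      (fun g _ => Finset.mem_filter.mpr ⟨Finset.mem_univ _, hc.not_mem g.2⟩) ?_ ?_ ?_
    · intro x _; show x * t * t = x; rw [mul_assoc, hc.tt, mul_one]
    · intro g _; exact Subtype.ext (by show (g : Γ) * t * t = g; rw [mul_assoc, hc.tt, mul_one])
    · intro x _; show F x = F (x * t * t); rw [mul_assoc, hc.tt, mul_one]

/-- The outer coset splits into classes parametrized by `A`. -/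
theorem Config.sum_coset (hc : Config G t A) [Fintype G] [Fintype A] {F : Γ → ℂ} (hF : IsClassFunction Γ F) :
    (Nat.card A : ℂ) * ∑ g : G, F ((g : Γ) * t) = (Nat.card G : ℂ) * ∑ a : A, F ((a : Γ) * t) := by
  classical
  set AG := A.subgroupOf G with hAG
  have hcardAG : Nat.card AG = Nat.card A := Nat.card_congr (Subgroup.subgroupOfEquivOfLe hc.le).toEquiv
  haveI : Fintype (G ⧸ AG) := Fintype.ofFinite _
  let Ψ : (G ⧸ AG) × A → G := fun p =>
    ⟨(p.1.out : Γ) * p.2 * t * (p.1.out : Γ)⁻¹ * t, by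
      have h1 := hc.not_mem (G.mul_mem p.1.out.2 (hc.le p.2.2))
      refine hc.mul_t_mem fun h => h1 ?_
      have := G.mul_mem h p.1.out.2
      simpa using this⟩
  have hinj : Function.Injective Ψ := by
    rintro ⟨x, a, ha⟩ ⟨y, b, hb⟩ h
    have h1 : (x.out : Γ) * a * t * (x.out : Γ)⁻¹ = (y.out : Γ) * b * t * (y.out : Γ)⁻¹ :=
      mul_right_cancel (congrArg Subtype.val h : (x.out : Γ) * a * t * (x.out : Γ)⁻¹ * t =
        (y.out : Γ) * b * t * (y.out : Γ)⁻¹ * t)
    set z : Γ := (y.out : Γ)⁻¹ * x.out with hz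
    have hzG : z ∈ G := G.mul_mem (G.inv_mem y.out.2) x.out.2
    have h2 : z * a * t * z⁻¹ = b * t := by
      calc z * a * t * z⁻¹ = (y.out : Γ)⁻¹ * ((x.out : Γ) * a * t * (x.out : Γ)⁻¹) * y.out := by rw [hz]; group
        _ = b * t := by rw [h1]; group
    have h3 : z * a = b * (t * z * t) := by
      calc z * a = (z * a * t * z⁻¹) * z * t⁻¹ := by group
        _ = b * t * z * t := by rw [h2, hc.tinv]
        _ = _ := by group
    have h4 : (t * z * t) * a = b * z := by
      calc (t * z * t) * a = t * z * (t * a) := by group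
        _ = t * (z * a) * t := by rw [← hc.comm_t ha]; group
        _ = t * b * (t * z * t) * t := by rw [h3]; group
        _ = t * (b * t) * z * (t * t) := by group
        _ = t * (b * t) * z := by rw [hc.tt, mul_one]
        _ = t * (t * b) * z := by rw [hc.comm_t hb]
        _ = (t * t) * b * z := by group
        _ = b * z := by rw [hc.tt, one_mul]
    have h5 : z * (a * a) * z⁻¹ = b * b := by
      rw [← mul_assoc, h3, show b * (t * z * t) * a = b * ((t * z * t) * a) by group, h4]; group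
    have hab2 := hc.hfus _ (A.mul_mem ha ha) _ (A.mul_mem hb hb) z hzG h5
    have he : a = b := hc.sqrt_unique ha hb hab2
    subst he
    have h6 : Commute z (a * a) := mul_inv_eq_iff_eq_mul.mp h5
    have h7 : Commute z a := by
      obtain ⟨k, hk⟩ := hc.odd.of_dvd_nat (_root_.orderOf_dvd_natCard (⟨a, hc.le ha⟩ : G))
      rw [Subgroup.orderOf_mk] at hk
      have h8 := h6.pow_right (k + 1)
      rw [← pow_two, ← pow_mul, show 2 * (k + 1) = orderOf a + 1 by omega, pow_succ, pow_orderOf_eq_one,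
        one_mul] at h8
      exact h8
    have h8 : t * z * t = z := by
      rw [← mul_right_inj a, ← h3]; exact h7.eq
    have hzA : z ∈ A := by
      rw [hc.hA]
      refine ⟨hzG, Subgroup.mem_centralizer_singleton_iff.mpr ?_⟩
      calc z * t = t * z * (t * t) := by nth_rewrite 1 [← h8]; group
        _ = t * z := by rw [hc.tt, mul_one]
    have hxy : x = y := by
      rw [← Quotient.out_eq x, ← Quotient.out_eq y]
      refine (QuotientGroup.eq.mpr ?_).symm
      exact Subgroup.mem_subgroupOf.mpr hzA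
    subst hxy
    rfl
  have hbij : Function.Bijective Ψ := by
    refine (Fintype.bijective_iff_injective_and_card Ψ).mpr ⟨hinj, ?_⟩
    rw [Fintype.card_prod, ← Nat.card_eq_fintype_card, ← Nat.card_eq_fintype_card, ← Nat.card_eq_fintype_card,
      ← hcardAG, ← Subgroup.card_eq_card_quotient_mul_card_subgroup]
  rw [← hbij.sum_comp (fun g : G => F ((g : Γ) * t)), Fintype.sum_prod_type]
  have hval : ∀ (x : G ⧸ AG) (a : A), F (((Ψ (x, a) : G) : Γ) * t) = F ((a : Γ) * t) := fun x a => by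
    show F ((x.out : Γ) * a * t * (x.out : Γ)⁻¹ * t * t) = _
    rw [mul_assoc _ t t, hc.tt, mul_one, show (x.out : Γ) * a * t * (x.out : Γ)⁻¹ = x.out * (a * t) * (x.out : Γ)⁻¹ by group]
    exact hF _ _
  simp only [hval, Finset.sum_const, Finset.card_univ, nsmul_eq_mul]
  rw [← mul_assoc, ← Nat.card_eq_fintype_card (α := G ⧸ AG)]
  congr 1
  rw [← Nat.cast_mul, ← hcardAG, mul_comm, ← Subgroup.card_eq_card_quotient_mul_card_subgroup]

/-- The outer values of a character on `A t` form a virtual character of `A`. -/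
theorem Config.isGenChar_outer (hc : Config G t A) {χ : Γ → ℂ} (hχ : IsCharacter Γ χ) :
    IsGeneralizedCharacter A (fun a : A => χ ((a : Γ) * t)) := by
  classical
  let C := Subgroup.zpowers t
  let f : A × C →* Γ := A.subtype.noncommCoprod C.subtype (fun a c => by
    obtain ⟨k, hk⟩ := c.2
    show Commute (a : Γ) (c : Γ)
    rw [← hk]
    exact (show Commute (a : Γ) t from hc.comm_t a.2).zpow_right k)
  haveI : Fintype (A × C) := Fintype.ofFinite _
  haveI : Fintype A := Fintype.ofFinite _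
  have hcomm : ∀ x y : A × C, x * y = y * x := fun x y => Prod.ext (Subtype.ext (hc.hab _ x.1.2 _ y.1.2))
    (Subtype.ext (by
      obtain ⟨i, hi⟩ := x.2.2
      obtain ⟨j, hj⟩ := y.2.2
      show (x.2 : Γ) * y.2 = y.2 * x.2
      rw [← hi, ← hj]
      exact ((Commute.refl t).zpow_zpow i j).eq))
  have hψ : IsCharacter (A × C) (fun x => χ (f x)) := isCharacter_comp hχ f
  obtain ⟨hcl, hn⟩ := isCharacter_iff_coeff_nat.mp hψ
  choose n hn using fun η : IrrCharacter (A × C) => hn η η.2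
  let T : C := ⟨t, Subgroup.mem_zpowers t⟩
  have heq : (fun a : A => χ ((a : Γ) * t)) =
      ∑ η : IrrCharacter (A × C), ((n η : ℂ) * (η : A × C → ℂ) (1, T)) • (fun a : A => (η : A × C → ℂ) (a, 1)) := by
    funext a
    have h := congrFun (eq_sum_irr hcl) (a, T)
    simp only [Finset.sum_apply, Pi.smul_apply, smul_eq_mul, hn] at h ⊢
    refine Eq.trans (Eq.trans (by rfl) h) (Finset.sum_congr rfl fun η _ => ?_)
    obtain ⟨φ, hφ⟩ := exists_hom_of_degree_one (isCharacter_of_irr η.2) (degree_one_of_commutative hcomm η.2)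
    rw [hφ, mul_assoc]
    congr 1
    rw [mul_comm, ← Units.val_mul, ← map_mul, Prod.mk_mul_mk, mul_one, one_mul]
  rw [heq]
  refine isGenChar_sum _ _ fun η _ => ?_
  obtain ⟨φ, hφ⟩ := exists_hom_of_degree_one (isCharacter_of_irr η.2) (degree_one_of_commutative hcomm η.2)
  have hsq : ((η : A × C → ℂ) (1, T)) ^ 2 = 1 := by
    rw [hφ, ← Units.val_pow_eq_pow_val, ← map_pow, Prod.pow_mk, one_pow,
      show T ^ 2 = 1 from Subtype.ext (by show t ^ 2 = 1; rw [pow_two]; exact hc.tt)]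
    simp [Prod.mk_one_one]
  have hχ' : IsGeneralizedCharacter A (fun a : A => (η : A × C → ℂ) (a, 1)) :=
    isGenChar_of_char (isCharacter_comp (isCharacter_of_irr η.2) (MonoidHom.inl A C))
  rcases sq_eq_one_iff.mp hsq with h | h <;> rw [h]
  · simpa using isGenChar_intSmul (n η : ℤ) hχ'
  · simpa using isGenChar_intSmul (-(n η : ℤ)) hχ'

/-- Values at `t` are `0` or `±1`, and nonzero values give irreducible restrictions. -/
theorem Config.value_t (hc : Config G t A) [Fintype G] [Fintype A] {χ : Γ → ℂ} (hχ : IsIrrCharacter Γ χ) :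
    χ t = 0 ∨ (χ t ^ 2 = 1 ∧ IsIrrCharacter G (fun g : G => χ g)) := by
  classical
  have hres := isCharacter_restrict (isCharacter_of_irr hχ) G
  have hm := hc.isGenChar_outer (isCharacter_of_irr hχ)
  obtain ⟨c₁, hθ, -, hn₁⟩ := classInner_self_eq_sum_sq (isGenChar_of_char hres)
  obtain ⟨c₂, hθ₂, -, hn₂⟩ := classInner_self_eq_sum_sq hm
  have hsum := sum_mul_conj_irr hχ
  rw [hc.sum_split (fun x => χ x * conj (χ x))] at hsum
  have hcl : IsClassFunction Γ (fun x => χ x * conj (χ x)) := fun g h => by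
    show χ (h * g * h⁻¹) * conj (χ (h * g * h⁻¹)) = _
    rw [isClassFunction_irr hχ g h]
  have hcos := hc.sum_coset hcl
  have hG0 : (Nat.card G : ℂ) ≠ 0 := Nat.cast_ne_zero.mpr Nat.card_pos.ne'
  have hA0 : (Nat.card A : ℂ) ≠ 0 := Nat.cast_ne_zero.mpr Nat.card_pos.ne'
  have e₁ : (Nat.card G : ℂ) * ((∑ ψ, c₁ ψ ^ 2 : ℤ) : ℂ) = ∑ g : G, χ g * conj (χ g) := by
    rw [← hn₁, classInner, ← mul_assoc, mul_inv_cancel₀ hG0, one_mul]
  have e₂ : (Nat.card A : ℂ) * ((∑ ψ, c₂ ψ ^ 2 : ℤ) : ℂ) = ∑ a : A, χ ((a : Γ) * t) * conj (χ ((a : Γ) * t)) := by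
    rw [← hn₂, classInner, ← mul_assoc, mul_inv_cancel₀ hA0, one_mul]
  rw [← e₂] at hcos
  have e₃ : ∑ g : G, χ ((g : Γ) * t) * conj (χ ((g : Γ) * t)) = (Nat.card G : ℂ) * ((∑ ψ, c₂ ψ ^ 2 : ℤ) : ℂ) :=
    mul_left_cancel₀ hA0 (by rw [hcos]; ring)
  rw [← e₁, e₃, show Nat.card Γ = Nat.card G * 2 by rw [← hc.idx, Subgroup.card_mul_index], Nat.cast_mul,
    ← mul_add, mul_right_inj' hG0] at hsum
  have h12 : (∑ ψ, c₁ ψ ^ 2) + (∑ ψ, c₂ ψ ^ 2) = 2 := by exact_mod_cast hsum
  have h1pos : 1 ≤ ∑ ψ, c₁ ψ ^ 2 := by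
    by_contra hlt
    have h0 : ∑ ψ, c₁ ψ ^ 2 = 0 := le_antisymm (by omega) (Finset.sum_nonneg fun _ _ => sq_nonneg _)
    have hall := (Finset.sum_eq_zero_iff_of_nonneg fun _ _ => sq_nonneg _).mp h0
    have h1 := congrFun hθ 1
    simp only [Finset.sum_apply, Pi.smul_apply, smul_eq_mul] at h1
    rw [Finset.sum_eq_zero fun ψ _ => by rw [pow_eq_zero_iff two_ne_zero |>.mp (hall ψ (Finset.mem_univ _))]; simp] at h1
    exact irr_ne_zero hχ h1
  have h2nn : 0 ≤ ∑ ψ, c₂ ψ ^ 2 := Finset.sum_nonneg fun _ _ => sq_nonneg _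
  rcases eq_or_lt_of_le h1pos with h | h
  · right
    have hm1 : classInner (fun a : A => χ ((a : Γ) * t)) (fun a : A => χ ((a : Γ) * t)) = 1 := by
      rw [hn₂, show (∑ ψ, c₂ ψ ^ 2) = 1 by omega]; norm_num
    refine ⟨?_, irr_of_char_norm_one hres (by rw [hn₁, ← h]; norm_num)⟩
    have hcomm : ∀ a b : A, a * b = b * a := fun a b => Subtype.ext (hc.hab _ a.2 _ b.2)
    rcases irr_or_neg_of_norm_one hm hm1 with hi | hi
    · have := degree_one_of_commutative hcomm hi
      simp only [OneMemClass.coe_one, one_mul] at this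
      rw [this, one_pow]
    · have := degree_one_of_commutative hcomm hi
      simp only [Pi.neg_apply, OneMemClass.coe_one, one_mul, neg_eq_iff_eq_neg] at this
      rw [this]; norm_num
  · left
    have h0 : ∑ ψ, c₂ ψ ^ 2 = 0 := by omega
    have hall := (Finset.sum_eq_zero_iff_of_nonneg fun _ _ => sq_nonneg _).mp h0
    have h1 := congrFun hθ₂ 1
    simp only [Finset.sum_apply, Pi.smul_apply, smul_eq_mul, OneMemClass.coe_one, one_mul] at h1
    rw [h1]
    exact Finset.sum_eq_zero fun ψ _ => by rw [pow_eq_zero_iff two_ne_zero |>.mp (hall ψ (Finset.mem_univ _))]; simp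

end CfsgLib.FpfFour
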