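import Cfsg.Agent.Lib.FpfFour.Basic
import Cfsg.Agent.Lib.Basic

/-!
Invariant solvable subgroups and invariant Sylow subgroups.
-/

set_option autoImplicit false
set_option linter.unusedSectionVars false

namespace CfsgLib.FpfFour

open Cfsg.Agent.S3794 Subgroup
open scoped Pointwise

universe u

variable {G : Type u} [Group G] [Finite G]

/-- An element lies in a subgroup when its primary powers do. -/
theorem mem_of_primary (H : Subgroup G) : ∀ g : G,
    (∀ q : ℕ, q.Prime → ∀ n k : ℕ, (g ^ n) ^ q ^ k = 1 → g ^ n ∈ H) → g ∈ H := by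
  suffices ∀ (m : ℕ) (g : G), orderOf g = m →
      (∀ q : ℕ, q.Prime → ∀ n k : ℕ, (g ^ n) ^ q ^ k = 1 → g ^ n ∈ H) → g ∈ H from fun g => this _ g rfl
  intro m
  induction m using Nat.strong_induction_on with
  | _ m ih =>
  intro g hg h
  subst hg
  rcases eq_or_ne (orderOf g) 1 with h1 | h1
  · rw [orderOf_eq_one_iff.mp h1]; exact H.one_mem
  have hq := Nat.minFac_prime h1
  set q := (orderOf g).minFac with hqdef
  have := Fact.mk hq
  obtain ⟨a, b, hb, hab⟩ := Nat.exists_eq_pow_mul_and_not_dvd (orderOf_pos g).ne' q hq.ne_one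
  have ha : a ≠ 0 := fun ha => hb (by
    rw [ha, pow_zero, one_mul] at hab
    rw [← hab]; exact Nat.minFac_dvd _)
  have h2 : g ^ b ∈ H := h q hq b a (by rw [← pow_mul, mul_comm, ← hab, pow_orderOf_eq_one])
  have h3 : g ^ q ^ a ∈ H := by
    refine ih _ ?_ (g ^ q ^ a) rfl fun r hr n k hk => ?_
    · rw [orderOf_pow_of_dvd (pow_ne_zero _ hq.ne_zero) (hab ▸ dvd_mul_right _ _)]
      exact Nat.div_lt_self (orderOf_pos g) (Nat.one_lt_pow ha hq.one_lt)
    · rw [← pow_mul]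
      rw [← pow_mul g] at hk
      exact h r hr _ k hk
  have hcop : Int.gcd (b : ℤ) ((q ^ a : ℕ) : ℤ) = 1 :=
    ((hq.coprime_iff_not_dvd.mpr hb).symm.pow_right a)
  obtain ⟨x, y, hxy⟩ := Int.gcd_dvd_iff.mp (show Int.gcd (b : ℤ) ((q ^ a : ℕ) : ℤ) ∣ 1 by rw [hcop])
  have e : g = (g ^ b) ^ x * (g ^ q ^ a) ^ y := by
    rw [← zpow_natCast g b, ← zpow_natCast g (q ^ a), ← zpow_mul, ← zpow_mul, ← zpow_add, ← hxy]
    simp
  rw [e]
  exact H.mul_mem (H.zpow_mem h2 x) (H.zpow_mem h3 y)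

variable {φ : MulAut G} (h4 : φ ^ 4 = 1) (hfpf : ∀ g, φ g = g → g = 1)
include h4 hfpf

/-- The subgroup `[X, φ²]`. -/
noncomputable def Tau (X : Subgroup G) (hX : IsStable φ X) : Subgroup G :=
  (tauComm (autRes φ X hX)).map X.subtype

omit h4 hfpf in
theorem tau_le (X : Subgroup G) (hX : IsStable φ X) : Tau (φ := φ) X hX ≤ X := Subgroup.map_subtype_le _

omit h4 hfpf in
theorem tau_stable (X : Subgroup G) (hX : IsStable φ X) : IsStable φ (Tau (φ := φ) X hX) := by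
  rintro _ ⟨x, hx, rfl⟩
  exact ⟨autRes φ X hX x, tauComm_invariant _ x hx, rfl⟩

omit h4 hfpf in
theorem tau_normal (X : Subgroup G) (hX : IsStable φ X) :
    X ≤ Subgroup.normalizer (Tau (φ := φ) X hX : Set G) := fun g hg => by
  have hn := tauComm_normal (autRes φ X hX)
  have key : ∀ h ∈ X, ∀ x ∈ Tau (φ := φ) X hX, h * x * h⁻¹ ∈ Tau (φ := φ) X hX := by
    rintro h hh _ ⟨x, hx, rfl⟩
    exact ⟨⟨h, hh⟩ * x * ⟨h, hh⟩⁻¹, hn.conj_mem x hx _, rfl⟩
  rw [Subgroup.mem_normalizer_iff]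
  refine fun x => ⟨key g hg x, fun hx => ?_⟩
  have := key g⁻¹ (inv_mem hg) _ hx
  simpa [mul_assoc] using this

theorem tau_nilpotent (X : Subgroup G) (hX : IsStable φ X) (hs : Group.IsSolvable X) :
    Group.IsNilpotent (Tau (φ := φ) X hX) := by
  have := tauComm_nilpotent _ X rfl hs (autRes φ X hX) (autRes_four h4 X hX)
    (fun g hg => Subtype.ext (hfpf g (congrArg Subtype.val hg)))
  exact Group.nilpotent_of_mulEquiv (Subgroup.equivMapOfInjective _ X.subtype X.subtype_injective)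

theorem mem_tau (X : Subgroup G) (hX : IsStable φ X) {x : G} (hx : x ∈ X) (hi : Inv φ x) :
    x ∈ Tau (φ := φ) X hX := by
  obtain ⟨r, hr, hri, hrr⟩ := hi.exists_sqrt h4 (odd_card h4 hfpf)
  have hrX : r ∈ X := (Subgroup.zpowers_le.mpr hx) hr
  refine ⟨⟨x, hx⟩, ?_, rfl⟩
  have e : (⟨x, hx⟩ : X) = ((⟨r, hrX⟩ : X)⁻¹ * autRes φ X hX (autRes φ X hX ⟨r, hrX⟩))⁻¹ := by
    refine Subtype.ext ?_
    show x = (r⁻¹ * φ (φ r))⁻¹
    rw [show φ (φ r) = r⁻¹ from hri, mul_inv_rev, inv_inv, hrr]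
  rw [e]
  exact Subgroup.inv_mem _ (Subgroup.subset_closure ⟨_, rfl⟩)

/-- `[X, φ²]` is generated by inverted elements. -/
theorem tau_le_closure (X : Subgroup G) (hX : IsStable φ X) :
    Tau (φ := φ) X hX ≤ Subgroup.closure {x | x ∈ X ∧ Inv φ x} := by
  rw [Tau, tauComm, MonoidHom.map_closure, Subgroup.closure_le]
  rintro _ ⟨_, ⟨g, rfl⟩, rfl⟩
  refine Subgroup.subset_closure ⟨Subtype.coe_prop ((g⁻¹ * autRes φ X hX (autRes φ X hX g) : X)), ?_⟩
  show φ (φ ((g : G)⁻¹ * φ (φ (g : G)))) = ((g : G)⁻¹ * φ (φ (g : G)))⁻¹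
  rw [map_mul, map_mul, map_inv, map_inv, pow_four_apply h4]
  group

/-- `X / [X, φ²]` is abelian. -/
theorem commutator_mem_tau (X : Subgroup G) (hX : IsStable φ X) {g h : G} (hg : g ∈ X) (hh : h ∈ X) :
    g * h * g⁻¹ * h⁻¹ ∈ Tau (φ := φ) X hX := by
  obtain ⟨i, a, hiX, hi, haX, ha, rfl⟩ := decomp h4 hfpf hX hg
  obtain ⟨j, b, hjX, hj, hbX, hb, rfl⟩ := decomp h4 hfpf hX hh
  set T := Tau (φ := φ) X hX with hT
  have hn : ∀ y ∈ X, ∀ x ∈ T, y * x * y⁻¹ ∈ T := fun y hy x hx =>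
    (Subgroup.mem_normalizer_iff.mp (tau_normal X hX hy) x).mp hx
  have hiT := mem_tau h4 hfpf X hX hiX hi
  have hjT := mem_tau h4 hfpf X hX hjX hj
  have e : i * a * (j * b) * (i * a)⁻¹ * (j * b)⁻¹ =
      i * (a * j * a⁻¹) * ((a * b * a⁻¹) * i⁻¹ * (a * b * a⁻¹)⁻¹) * (a * b * a⁻¹ * b⁻¹) * j⁻¹ := by group
  rw [e, show a * b * a⁻¹ = b by rw [comm_fixA h4 hfpf ha hb, mul_inv_cancel_right], mul_inv_cancel, mul_one]
  exact T.mul_mem (T.mul_mem (T.mul_mem hiT (hn a haX j hjT)) (hn b hbX _ (T.inv_mem hiT))) (T.inv_mem hjT)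

/-- The normal `q`-part of `[X, φ²]`. -/
theorem exists_core (X : Subgroup G) (hX : IsStable φ X) (hs : Group.IsSolvable X) (q : ℕ) [Fact q.Prime] :
    ∃ O : Subgroup G, O ≤ X ∧ IsPGroup q O ∧ IsStable φ O ∧ X ≤ Subgroup.normalizer (O : Set G) ∧
      ∀ x ∈ Tau (φ := φ) X hX, (∃ k, x ^ q ^ k = 1) → x ∈ O := by
  set T := Tau (φ := φ) X hX with hT
  have hnil := tau_nilpotent h4 hfpf X hX hs
  obtain ⟨P⟩ : Nonempty (Sylow q T) := inferInstance
  have hPn : (P : Subgroup T).Normal :=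
    Sylow.normal_of_normalizerCondition Group.normalizerCondition_of_isNilpotent P
  have hPc : (P : Subgroup T).Characteristic := Sylow.characteristic_of_normal P hPn
  have hmem : ∀ x : T, (∃ k, x ^ q ^ k = 1) → x ∈ (P : Subgroup T) := by
    rintro x ⟨k, hk⟩
    have hp : IsPGroup q (Subgroup.zpowers x) := by
      rintro ⟨y, m, rfl⟩
      exact ⟨k, Subtype.ext (by
        show (x ^ m) ^ q ^ k = 1
        rw [← zpow_natCast, ← zpow_mul, mul_comm, zpow_mul, zpow_natCast, hk, one_zpow])⟩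
    obtain ⟨Q, hQ⟩ := hp.exists_le_sylow
    have := P.unique_of_normal hPn
    exact (Subsingleton.elim Q P) ▸ hQ (mem_zpowers x)
  refine ⟨(P : Subgroup T).map T.subtype, (Subgroup.map_subtype_le _).trans (tau_le X hX),
    P.isPGroup'.map _, ?_, (CfsgLib.le_normalizer_map_characteristic (tau_normal X hX) (P : Subgroup T)).1,
    fun x hx hk => ⟨⟨x, hx⟩, hmem _ (hk.imp fun k e => Subtype.ext e), rfl⟩⟩
  rintro _ ⟨x, hx, rfl⟩
  obtain ⟨k, hk⟩ := P.isPGroup' ⟨x, hx⟩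
  refine ⟨⟨φ x, tau_stable X hX x x.2⟩, hmem _ ⟨k, Subtype.ext ?_⟩, rfl⟩
  show φ (x : G) ^ q ^ k = 1
  rw [← map_pow]
  have h1 : (x : G) ^ q ^ k = 1 := congrArg (fun z : (P : Subgroup T) => ((z : T) : G)) hk
  rw [h1, map_one]

/-- Inverted elements of coprime prime power orders in an invariant solvable subgroup commute. -/
theorem commute_inverted {X : Subgroup G} (hX : IsStable φ X) (hs : Group.IsSolvable X) {p q : ℕ}
    [Fact p.Prime] [Fact q.Prime] (hpq : p ≠ q) {x y : G} (hx : x ∈ X) (hxi : Inv φ x)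
    (hxp : ∃ k, x ^ p ^ k = 1) (hy : y ∈ X) (hyi : Inv φ y) (hyq : ∃ k, y ^ q ^ k = 1) : x * y = y * x := by
  obtain ⟨O, hOX, hOp, -, hOn, hOm⟩ := exists_core h4 hfpf X hX hs p
  obtain ⟨R, hRX, hRq, -, hRn, hRm⟩ := exists_core h4 hfpf X hX hs q
  have hxO := hOm x (mem_tau h4 hfpf X hX hx hxi) hxp
  have hyR := hRm y (mem_tau h4 hfpf X hX hy hyi) hyq
  have h1 : x * y * x⁻¹ * y⁻¹ ∈ O := by
    have := O.mul_mem hxO ((Subgroup.mem_normalizer_iff.mp (hOn hy) x⁻¹).mp (O.inv_mem hxO))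
    simpa [mul_assoc] using this
  have h2 : x * y * x⁻¹ * y⁻¹ ∈ R :=
    R.mul_mem ((Subgroup.mem_normalizer_iff.mp (hRn hx) y).mp hyR) (R.inv_mem hyR)
  have h3 := (IsPGroup.disjoint_of_ne p q hpq O R hOp hRq)
  have h5 := Subgroup.disjoint_def.mp h3 h1 h2
  exact mul_inv_eq_iff_eq_mul.mp (mul_inv_eq_one.mp h5)

/-- Some Sylow subgroup is invariant. -/
theorem exists_sylow_stable (p : ℕ) [Fact p.Prime] : ∃ P : Sylow p G, IsStable φ (P : Subgroup G) := by
  obtain ⟨P, hP⟩ := Cfsg.Agent.S0031.result φ (fun g hg => hfpf g hg) p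
  exact ⟨P, fun x hx => hP.le ⟨x, hx, rfl⟩⟩

theorem sylow_stable_unique {p : ℕ} [Fact p.Prime] (P Q : Sylow p G) (hP : IsStable φ (P : Subgroup G))
    (hQ : IsStable φ (Q : Subgroup G)) : P = Q := by
  obtain ⟨g, rfl⟩ := MulAction.exists_smul_eq G P Q
  set N := Subgroup.normalizer ((P : Subgroup G) : Set G) with hN
  have hNs : IsStable φ N := hP.normalizer
  have hgN : g⁻¹ * φ g ∈ N := by
    rw [hN, Subgroup.mem_normalizer_iff]
    have key : ∀ x, x ∈ (P : Subgroup G) → g⁻¹ * φ g * x * (g⁻¹ * φ g)⁻¹ ∈ (P : Subgroup G) := by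
      intro x hx
      obtain ⟨y, hy, rfl⟩ := hP.surj hx
      have h1 : g * y * g⁻¹ ∈ ((g • P : Sylow p G) : Subgroup G) := by
        rw [Sylow.coe_subgroup_smul, Subgroup.mem_pointwise_smul_iff_inv_smul_mem]
        simpa [mul_assoc] using hy
      have h2 := hQ _ h1
      rw [Sylow.coe_subgroup_smul, Subgroup.mem_pointwise_smul_iff_inv_smul_mem] at h2
      simpa [mul_assoc] using h2
    intro x
    refine ⟨key x, fun hx => ?_⟩
    obtain ⟨⟨z, hz⟩, he⟩ := Finite.surjective_of_injective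
      (f := fun u : (P : Subgroup G) => (⟨_, key u u.2⟩ : (P : Subgroup G)))
      (fun a b h => Subtype.ext (mul_left_cancel (mul_right_cancel (congrArg Subtype.val h)))) ⟨_, hx⟩
    exact (mul_left_cancel (mul_right_cancel (congrArg Subtype.val he))) ▸ hz
  have hinj : Function.Injective fun n : N => (⟨(n : G)⁻¹ * φ n, N.mul_mem (N.inv_mem n.2) (hNs n n.2)⟩ : N) :=
    fun a b h => by
      have h' : (a : G)⁻¹ * φ a = (b : G)⁻¹ * φ b := congrArg Subtype.val h
      have : φ ((b : G) * (a : G)⁻¹) = b * (a : G)⁻¹ := by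
        rw [map_mul, map_inv, show φ (b : G) = b * ((a : G)⁻¹ * φ a) by rw [h', mul_inv_cancel_left]]
        group
      exact Subtype.ext (mul_inv_eq_one.mp (hfpf _ this)).symm
  obtain ⟨⟨n, hn⟩, he⟩ := Finite.surjective_of_injective hinj ⟨_, hgN⟩
  have he' : n⁻¹ * φ n = g⁻¹ * φ g := congrArg Subtype.val he
  have hgn : g = n := by
    refine mul_inv_eq_one.mp (hfpf _ ?_)
    rw [map_mul, map_inv, show φ g = g * (n⁻¹ * φ n) by rw [he', mul_inv_cancel_left]]
    group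
  exact (Sylow.smul_eq_iff_mem_normalizer.mpr (hgn ▸ hn)).symm

/-- Every invariant `p`-subgroup lies in the invariant Sylow subgroup. -/
theorem le_sylow {p : ℕ} [Fact p.Prime] (P : Sylow p G) (hP : IsStable φ (P : Subgroup G)) {R : Subgroup G}
    (hR : IsPGroup p R) (hRs : IsStable φ R) : R ≤ (P : Subgroup G) := by
  obtain ⟨S, ⟨hRS, hSs, hSp⟩, hmax⟩ := (Set.toFinite
    {S : Subgroup G | R ≤ S ∧ IsStable φ S ∧ IsPGroup p S}).exists_maximal ⟨R, le_rfl, hRs, hR⟩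
  set N := Subgroup.normalizer (S : Set G) with hN
  have hNs : IsStable φ N := hSs.normalizer
  obtain ⟨T, hT⟩ := exists_sylow_stable (φ := autRes φ N hNs) (autRes_four h4 N hNs)
    (fun g hg => Subtype.ext (hfpf g (congrArg Subtype.val hg))) p
  have hSN : (S.subgroupOf N).Normal := Subgroup.normal_in_normalizer
  have hST : S.subgroupOf N ≤ (T : Subgroup N) := by
    have h := (IsPGroup.of_equiv hSp (Subgroup.subgroupOfEquivOfLe Subgroup.le_normalizer).symm).to_sup_of_normal_left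
      T.isPGroup'
    exact le_sup_left.trans (T.is_maximal' h le_sup_right).le
  have hle : S ≤ (T : Subgroup N).map N.subtype := fun x hx => ⟨⟨x, Subgroup.le_normalizer hx⟩, hST hx, rfl⟩
  have hTs : IsStable φ ((T : Subgroup N).map N.subtype) := by
    rintro _ ⟨x, hx, rfl⟩
    exact ⟨autRes φ N hNs x, hT x hx, rfl⟩
  have heq := le_antisymm hle (hmax ⟨hRS.trans hle, hTs, T.isPGroup'.map _⟩ hle)
  obtain ⟨Q, hQ⟩ := hSp.exists_le_sylow
  have hSQ : S = (Q : Subgroup G) := by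
    by_contra hne
    have hlt : (⊤ : Subgroup (Q : Subgroup G)) ≠ S.subgroupOf (Q : Subgroup G) := fun e =>
      hne (le_antisymm hQ (Subgroup.subgroupOf_eq_top.mp e.symm))
    have : Group.IsNilpotent (Q : Subgroup G) := Q.isPGroup'.isNilpotent
    obtain ⟨x, hx, hxS⟩ := SetLike.exists_of_lt
      (Group.normalizerCondition_of_isNilpotent _ (lt_top_iff_ne_top.mpr hlt.symm))
    have hxN : (x : G) ∈ N := by
      rw [hN, Subgroup.mem_normalizer_iff]
      intro z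
      constructor
      · intro hz
        exact (Subgroup.mem_normalizer_iff.mp hx ⟨z, hQ hz⟩).mp hz
      · intro hz
        have hzQ : z ∈ (Q : Subgroup G) := by
          have := (Q : Subgroup G).mul_mem ((Q : Subgroup G).mul_mem ((Q : Subgroup G).inv_mem x.2) (hQ hz)) x.2
          simpa [mul_assoc] using this
        exact (Subgroup.mem_normalizer_iff.mp hx ⟨z, hzQ⟩).mpr hz
    -- `T` is a Sylow subgroup of `N` equal to `S`
    have hp : IsPGroup p (Subgroup.zpowers (⟨x, hxN⟩ : N)) := by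
      rintro ⟨y, m, rfl⟩
      obtain ⟨k, hk⟩ := Q.isPGroup' (x ^ m)
      exact ⟨k, Subtype.ext (Subtype.ext (congrArg Subtype.val hk :))⟩
    have hTn : (T : Subgroup N).Normal := by
      have e : (T : Subgroup N) = S.subgroupOf N := by
        rw [heq, Subgroup.subgroupOf, Subgroup.comap_map_eq_self_of_injective N.subtype_injective]
      rw [e]; exact hSN
    obtain ⟨T', hT'⟩ := hp.exists_le_sylow
    have := T.unique_of_normal hTn
    have h1 := (Subsingleton.elim T' T) ▸ hT' (mem_zpowers _)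
    refine hxS ?_
    show (x : G) ∈ S
    rw [heq]
    exact ⟨_, h1, rfl⟩
  have := sylow_stable_unique h4 hfpf P Q hP (hSQ ▸ hSs)
  exact this ▸ hSQ ▸ hRS

end CfsgLib.FpfFour
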