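import Cfsg.Agent.Lib.FpfFour.Char
import Cfsg.Agent.Lib.CharTheory.CyclicTI
import Cfsg.Agent.Lib.CharTheory.ThreeDegrees

/-!
The counting contradiction.
-/

set_option autoImplicit false
set_option linter.unusedSectionVars false

namespace CfsgLib.FpfFour

open Cfsg CfsgLib.CharTheory
open scoped ComplexConjugate

universe u

variable {Γ : Type u} [Group Γ] [Fintype Γ] {G : Subgroup Γ} [G.Normal] {t : Γ} {A : Subgroup Γ}

theorem Config.card_centralizer (hc : Config G t A) {b : Γ} (hb : b ∈ A)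
    (hreg : G ⊓ Subgroup.centralizer ({b} : Set Γ) ≤ A) :
    Nat.card (Subgroup.centralizer ({b} : Set Γ)) = 2 * Nat.card A := by
  set C := Subgroup.centralizer ({b} : Set Γ) with hC
  have h1 : G ⊓ C = A := le_antisymm hreg (le_inf hc.le fun a ha => Subgroup.mem_centralizer_singleton_iff.mpr
    (hc.hab _ ha _ hb))
  have ht : t ∈ C := Subgroup.mem_centralizer_singleton_iff.mpr (hc.comm_t hb).symm
  have h2 : Nat.card (G.subgroupOf C) = Nat.card A := by
    rw [← Subgroup.inf_subgroupOf_right, h1]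
    exact Nat.card_congr (Subgroup.subgroupOfEquivOfLe (h1 ▸ inf_le_right)).toEquiv
  have h3 : (G.subgroupOf C).index = 2 := by
    have hd : G.relIndex C ∣ 2 := hc.idx ▸ Subgroup.relIndex_dvd_index_of_normal G C
    rcases (Nat.dvd_prime Nat.prime_two).mp hd with h | h
    · exact absurd ((Subgroup.relIndex_eq_one.mp h) ht) hc.tG
    · exact h
  rw [← Subgroup.card_mul_index (G.subgroupOf C), h2, h3, mul_comm]

/-- The counting contradiction. -/
theorem Config.absurd (hc : Config G t A) (lam mu : A →* ℂˣ) (hl : lam ≠ 1) (hm : mu ≠ 1) (hne : lam ≠ mu)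
    (hne' : lam * mu ≠ 1)
    (hreg : ∀ a : A, lam a ≠ 1 → mu a ≠ 1 → G ⊓ Subgroup.centralizer ({(a : Γ)} : Set Γ) ≤ A) : False := by
  classical
  haveI : Fintype G := Fintype.ofFinite _
  haveI : Fintype A := Fintype.ofFinite _
  let lf : (A →* ℂˣ) → A → ℂ := fun η a => (η a : ℂ)
  let f : A → ℂ := lf (lam * mu) - lf lam - lf mu + lf 1
  have hfval : ∀ a : A, f a = ((lam a : ℂ) - 1) * ((mu a : ℂ) - 1) := fun a => by
    simp [f, lf]; ring
  have hfgen : IsGeneralizedCharacter A f :=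
    isGenChar_add (isGenChar_sub (isGenChar_sub (isGenChar_of_char (isCharacter_of_irr (isIrrCharacter_linear _)))
      (isGenChar_of_char (isCharacter_of_irr (isIrrCharacter_linear _))))
      (isGenChar_of_char (isCharacter_of_irr (isIrrCharacter_linear _))))
      (isGenChar_of_char (isCharacter_of_irr (isIrrCharacter_linear _)))
  have e1 : lam * mu ≠ lam := fun h => hm (mul_left_cancel (h.trans (mul_one lam).symm))
  have e2 : lam * mu ≠ mu := fun h => hl (mul_right_cancel (h.trans (one_mul mu).symm))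
  have hff : classInner f f = 4 := by
    simp only [f, classInner_add_left, classInner_add_right, classInner_sub_left, classInner_sub_right, lf,
      classInner_linear, if_pos, if_neg hne, if_neg hne.symm, if_neg e1, if_neg e1.symm, if_neg e2, if_neg e2.symm,
      if_neg hne', if_neg hne'.symm, if_neg hl, if_neg hl.symm, if_neg hm, if_neg hm.symm]
    norm_num
  have hff1 : classInner f (fun _ => 1) = 1 := by
    have : (fun _ : A => (1 : ℂ)) = lf 1 := by funext a; simp [lf]
    rw [this]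
    simp only [f, classInner_add_left, classInner_sub_left, lf, classInner_linear, if_pos, if_neg hne',
      if_neg hl, if_neg hm]
    norm_num
  have hf1 : f 1 = 0 := by rw [hfval]; simp
  set F := indFun A f with hF
  have hFcl : IsClassFunction Γ F := indFun_isClassFunction A f
  have hFA : ∀ b : A, F b = 2 * f b := by
    intro b
    have hterm : ∀ x : Γ, extendByZero A f (x⁻¹ * b * x) =
        if x ∈ Subgroup.centralizer ({(b : Γ)} : Set Γ) then f b else 0 := by
      intro x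
      by_cases hx : x ∈ Subgroup.centralizer ({(b : Γ)} : Set Γ)
      · rw [if_pos hx]
        rw [Subgroup.mem_centralizer_singleton_iff] at hx
        rw [show x⁻¹ * b * x = (b : Γ) by rw [mul_assoc, ← hx]; group]
        exact extendByZero_coe A f b
      · rw [if_neg hx]
        refine extendByZero_of_not_mem A f fun hmem => hx ?_
        have h1 := hc.fusion b.2 hmem (x := x⁻¹) (by rw [inv_inv])
        rw [Subgroup.mem_centralizer_singleton_iff]
        calc x * b = x * (x⁻¹ * b * x) := by rw [← h1]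
          _ = b * x := by group
    simp only [hF, indFun, hterm]
    rw [Finset.sum_ite, Finset.sum_const_zero, add_zero, Finset.sum_const, nsmul_eq_mul,
      ← Fintype.card_subtype, ← Nat.card_eq_fintype_card]
    rcases eq_or_ne (f b) 0 with h0 | h0
    · rw [h0]; ring
    have hlm : lam b ≠ 1 ∧ mu b ≠ 1 := by
      rw [hfval] at h0
      exact ⟨fun h => h0 (by rw [h]; simp), fun h => h0 (by rw [h]; simp)⟩
    have hcard : Nat.card {x : Γ // x ∈ Subgroup.centralizer ({(b : Γ)} : Set Γ)} = 2 * Nat.card A :=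
      hc.card_centralizer b.2 (hreg b hlm.1 hlm.2)
    rw [hcard]
    push_cast
    have hA0 : (Nat.card A : ℂ) ≠ 0 := Nat.cast_ne_zero.mpr Nat.card_pos.ne'
    field_simp
  -- coefficients
  obtain ⟨hfcl, hfint⟩ := isGenChar_iff_coeff_int.mp hfgen
  have hFgen : IsGeneralizedCharacter Γ F := by
    refine isGenChar_iff_coeff_int.mpr ⟨hFcl, fun ψ hψ => ?_⟩
    rw [hF, frobenius_reciprocity A f (isClassFunction_irr hψ)]
    obtain ⟨c, -, hc', -⟩ := classInner_self_eq_sum_sq (isGenChar_of_char (isCharacter_restrict (isCharacter_of_irr hψ) A))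
    obtain ⟨d, hd, -, -⟩ := classInner_self_eq_sum_sq hfgen
    refine ⟨∑ η, d η * c η, ?_⟩
    conv_lhs => rw [hd]
    rw [classInner_sum_left]
    push_cast
    refine Finset.sum_congr rfl fun η _ => ?_
    rw [classInner_smul_left, ← classInner_comm (fun h : A => ψ h), hc', map_intCast]
  obtain ⟨c, hFeq, hcv, hsq⟩ := classInner_self_eq_sum_sq hFgen
  have hFF : classInner F F = 8 := by
    have h := frobenius_reciprocity A f hFcl
    rw [← hF] at h
    rw [h, show (fun a : A => F a) = (2 : ℂ) • f from funext fun a => by rw [hFA a]; rfl, classInner_smul_right, hff]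
    rw [map_ofNat]; norm_num
  have hsq8 : ∑ χ : IrrCharacter Γ, c χ ^ 2 = 8 := by
    rw [hFF] at hsq
    exact_mod_cast hsq.symm
  -- vanishing
  have hvan : ∀ a : Γ, F (a * t * a⁻¹ * t) = 0 := by
    intro a
    simp only [hF, indFun]
    rw [mul_eq_zero]
    refine Or.inr (Finset.sum_eq_zero fun x _ => ?_)
    by_cases hmem : x⁻¹ * (a * t * a⁻¹ * t) * x ∈ A
    · set b : Γ := x⁻¹ * (a * t * a⁻¹ * t) * x with hb
      have hinv : (x⁻¹ * t * x) * b * (x⁻¹ * t * x)⁻¹ = b⁻¹ := by
        rw [hb]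
        simp only [mul_inv_rev, inv_inv, hc.tinv]
        group
        simp [zpow_neg, mul_assoc, hc.tt]
      have h1 := hc.eq_one_of_inverted hmem (hc.fusion hmem (A.inv_mem hmem) hinv)
      rw [h1, show (1 : Γ) = ((1 : A) : Γ) from rfl, extendByZero_coe, hf1]
    · exact extendByZero_of_not_mem A f hmem
  have hS : ∑ χ : IrrCharacter Γ, (c χ : ℂ) * ((χ : Γ → ℂ) t * (χ : Γ → ℂ) t / (χ : Γ → ℂ) 1) = 0 := by
    have h0 : ∑ a : Γ, F (a * t * a⁻¹ * t) = 0 := Finset.sum_eq_zero fun a _ => hvan a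
    simp only [hFeq, Finset.sum_apply, Pi.smul_apply, smul_eq_mul] at h0
    rw [Finset.sum_comm] at h0
    have hN : (Nat.card Γ : ℂ) ≠ 0 := Nat.cast_ne_zero.mpr Nat.card_pos.ne'
    refine (mul_eq_zero.mp (?_ : (Nat.card Γ : ℂ) * _ = 0)).resolve_left hN
    rw [Finset.mul_sum, ← h0]
    refine Finset.sum_congr rfl fun χ _ => ?_
    rw [← Finset.mul_sum, sum_conj_mul_char χ.2]
    ring
  have hD : ∑ χ : IrrCharacter Γ, (c χ : ℂ) * (χ : Γ → ℂ) 1 = 0 := by
    have h0 : F 1 = 0 := by rw [hF, indFun_apply_one, hf1, mul_zero]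
    simpa only [hFeq, Finset.sum_apply, Pi.smul_apply, smul_eq_mul] using h0
  -- the two linear characters
  let εh : Γ →* ℂˣ :=
    { toFun := fun x => if x ∈ G then 1 else -1
      map_one' := by simp [G.one_mem]
      map_mul' := fun x y => by
        by_cases hx : x ∈ G <;> by_cases hy : y ∈ G <;>
          simp [hx, hy, Subgroup.mul_mem_iff_of_index_two hc.idx] }
  let one : IrrCharacter Γ := ⟨fun _ => 1, isIrrCharacter_one⟩
  let ε : IrrCharacter Γ := ⟨fun x => (εh x : ℂ), isIrrCharacter_linear εh⟩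
  have hεone : ε ≠ one := fun h => by
    have := congrFun (congrArg Subtype.val h) t
    simp [ε, one, εh, hc.tG] at this
    norm_num at this
  have hcone : ∀ χ : IrrCharacter Γ, (∀ a : A, (χ : Γ → ℂ) a = 1) → c χ = 1 := by
    intro χ h
    have h1 := hcv χ
    rw [hF, frobenius_reciprocity A f (isClassFunction_irr χ.2),
      show (fun a : A => (χ : Γ → ℂ) a) = fun _ => (1 : ℂ) from funext h, hff1] at h1
    exact_mod_cast h1.symm
  have hc1 : c one = 1 := hcone one fun _ => rfl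
  have hc2 : c ε = 1 := hcone ε fun a => by simp [ε, εh, hc.le a.2]
  -- degrees and signs of the others
  have hothers : ∀ χ : IrrCharacter Γ, χ ≠ one → χ ≠ ε →
      ∃ d s : ℕ, (χ : Γ → ℂ) 1 = d ∧ (χ : Γ → ℂ) t * (χ : Γ → ℂ) t = s ∧ 0 < d ∧ (s = 0 ∨ (s = 1 ∧ 3 ≤ d)) := by
    intro χ h1 h2
    obtain ⟨d, hd, hd1⟩ := irr_degree_pos χ.2
    rcases hc.value_t χ.2 with h | ⟨h, hirr⟩
    · exact ⟨d, 0, hd1, by rw [h]; simp, hd, Or.inl rfl⟩
    refine ⟨d, 1, hd1, by rw [← pow_two, h]; simp, hd, Or.inr ⟨rfl, ?_⟩⟩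
    by_contra hlt
    have hdd : d = 1 := by
      have hdvd : charDegree (fun g : G => (χ : Γ → ℂ) g) ∣ Nat.card G := ThreeDegrees.degree_dvd_card hirr
      have he : charDegree (fun g : G => (χ : Γ → ℂ) g) = d := by
        rw [charDegree, OneMemClass.coe_one, hd1, Complex.natCast_re, Nat.floor_natCast]
      rw [he] at hdvd
      have hodd := hc.odd.of_dvd_nat hdvd
      rcases hodd with ⟨k, hk⟩
      omega
    rw [hdd, Nat.cast_one] at hd1
    obtain ⟨φ, hφ⟩ := exists_hom_of_degree_one (isCharacter_of_irr χ.2) hd1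
    have hG1 : ∀ g ∈ G, φ g = 1 := by
      intro g hg
      rw [← hc.perf] at hg
      refine (Subgroup.commutator_le.mpr (fun a _ b _ => ?_) : ⁅G, G⁆ ≤ φ.ker) hg
      rw [MonoidHom.mem_ker, commutatorElement_def]
      simp [mul_comm]
    have hout : ∀ x, x ∉ G → φ x = φ t := fun x hx => by
      have := hG1 _ (hc.mul_t_mem hx)
      rw [map_mul] at this
      have htt : φ t * φ t = 1 := by rw [← map_mul, hc.tt, map_one]
      rw [eq_inv_of_mul_eq_one_left this, ← eq_inv_of_mul_eq_one_left htt]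
    have htsq : ((φ t : ℂ)) ^ 2 = 1 := by rw [← Units.val_pow_eq_pow_val, ← map_pow, pow_two, hc.tt, map_one]; rfl
    rcases sq_eq_one_iff.mp htsq with ht1 | ht1
    · refine h1 (Subtype.ext ?_)
      rw [hφ]
      funext x
      by_cases hx : x ∈ G
      · simp [one, hG1 x hx]
      · simp [one, hout x hx, ht1]
    · refine h2 (Subtype.ext ?_)
      rw [hφ]
      funext x
      by_cases hx : x ∈ G
      · simp [ε, εh, hG1 x hx, hx]
      · simp [ε, εh, hout x hx, ht1, hx]
  set R := (Finset.univ.erase one).erase ε with hR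
  choose! d s hd hs hdpos hds using hothers
  have hmemR : ∀ χ ∈ R, χ ≠ one ∧ χ ≠ ε := fun χ hχ => by
    rw [hR, Finset.mem_erase, Finset.mem_erase] at hχ
    exact ⟨hχ.2.1, hχ.1⟩
  have hsplit : ∀ F' : IrrCharacter Γ → ℂ, ∑ χ, F' χ = F' one + F' ε + ∑ χ ∈ R, F' χ := fun F' => by
    rw [← Finset.add_sum_erase _ _ (Finset.mem_univ one),
      ← Finset.add_sum_erase _ _ (Finset.mem_erase.mpr ⟨hεone, Finset.mem_univ ε⟩)]
    ring
  have hsq6 : ∑ χ ∈ R, c χ ^ 2 = 6 := by
    have h := hsplit (fun χ => ((c χ ^ 2 : ℤ) : ℂ))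
    rw [← Int.cast_sum, hsq8, hc1, hc2, ← Int.cast_sum] at h
    have : ((∑ χ ∈ R, c χ ^ 2 : ℤ) : ℂ) = ((6 : ℤ) : ℂ) := by push_cast at h ⊢; linear_combination -h
    exact_mod_cast this
  have hε1 : (ε : Γ → ℂ) 1 = 1 := by simp [ε]
  have hεt : (ε : Γ → ℂ) t = -1 := by simp [ε, εh, hc.tG]
  have hS' : ∑ χ ∈ R, ((c χ : ℝ) * s χ / d χ) = -2 := by
    rw [hsplit, hc1, hc2, hε1, hεt] at hS
    simp only [one, Int.cast_one, mul_one, div_one, mul_neg, neg_neg] at hS
    rw [Finset.sum_congr rfl fun χ hχ => show (c χ : ℂ) * ((χ : Γ → ℂ) t * (χ : Γ → ℂ) t / (χ : Γ → ℂ) 1) =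
        (((c χ : ℝ) * s χ / d χ : ℝ) : ℂ) by
      rw [hs χ (hmemR χ hχ).1 (hmemR χ hχ).2, hd χ (hmemR χ hχ).1 (hmemR χ hχ).2]
      push_cast
      ring] at hS
    rw [← Complex.ofReal_sum] at hS
    have : ((∑ χ ∈ R, ((c χ : ℝ) * s χ / d χ) : ℝ) : ℂ) = ((-2 : ℝ) : ℂ) := by
      push_cast at hS ⊢
      linear_combination hS
    exact_mod_cast this
  have hD' : ∑ χ ∈ R, ((c χ : ℝ) * d χ) = -2 := by
    rw [hsplit, hc1, hc2, hε1] at hD
    simp only [one, Int.cast_one, mul_one] at hD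
    rw [Finset.sum_congr rfl fun χ hχ => show (c χ : ℂ) * (χ : Γ → ℂ) 1 = (((c χ : ℝ) * d χ : ℝ) : ℂ) by
      rw [hd χ (hmemR χ hχ).1 (hmemR χ hχ).2]; push_cast; rfl] at hD
    rw [← Complex.ofReal_sum] at hD
    have : ((∑ χ ∈ R, ((c χ : ℝ) * d χ) : ℝ) : ℂ) = ((-2 : ℝ) : ℂ) := by
      push_cast at hD ⊢
      linear_combination hD
    exact_mod_cast this
  have hnn : ∀ χ ∈ R, 0 ≤ (c χ : ℝ) * s χ / d χ + (c χ : ℝ) ^ 2 / 3 := by
    intro χ hχ
    rcases hds χ (hmemR χ hχ).1 (hmemR χ hχ).2 with h | ⟨h, h3⟩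
    · rw [h]; simp; positivity
    · rw [h, Nat.cast_one, mul_one]
      have h3' : (3 : ℝ) ≤ d χ := by exact_mod_cast h3
      rcases le_or_gt 0 (c χ) with hc0 | hc0
      · have : (0 : ℝ) ≤ c χ := by exact_mod_cast hc0
        positivity
      · have hle : (c χ : ℝ) ≤ -1 := by exact_mod_cast (show c χ ≤ -1 by omega)
        have h4 : (c χ : ℝ) / 3 ≤ c χ / d χ := by
          rw [div_le_div_iff₀ (by norm_num) (by linarith)]
          nlinarith
        nlinarith
  have hzero : ∑ χ ∈ R, ((c χ : ℝ) * s χ / d χ + (c χ : ℝ) ^ 2 / 3) = 0 := by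
    rw [Finset.sum_add_distrib, hS', ← Finset.sum_div,
      show ∑ χ ∈ R, (c χ : ℝ) ^ 2 = 6 by exact_mod_cast hsq6]
    norm_num
  have hall := (Finset.sum_eq_zero_iff_of_nonneg hnn).mp hzero
  have hfin : ∀ χ ∈ R, (c χ : ℝ) * d χ = -3 * (c χ : ℝ) ^ 2 := by
    intro χ hχ
    have h := hall χ hχ
    rcases hds χ (hmemR χ hχ).1 (hmemR χ hχ).2 with h0 | ⟨h0, h3⟩
    · rw [h0] at h; simp at h; simp [h]
    · rw [h0, Nat.cast_one, mul_one] at h
      have h3' : (3 : ℝ) ≤ d χ := by exact_mod_cast h3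
      have hd0 : (d χ : ℝ) ≠ 0 := by linarith
      field_simp at h
      have hcases : (c χ : ℝ) = 0 ∨ (3 : ℝ) + c χ * d χ = 0 := by
        rcases eq_or_ne (c χ : ℝ) 0 with e | e
        · exact Or.inl e
        · right
          have : (c χ : ℝ) * (3 + c χ * d χ) = 0 := by linarith
          exact (mul_eq_zero.mp this).resolve_left e
      rcases hcases with e | e
      · rw [e]; ring
      · have hneg : (c χ : ℝ) < 0 := by nlinarith
        have hle : (c χ : ℝ) ≤ -1 := by
          have h' : c χ < 0 := by exact_mod_cast hneg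
          exact_mod_cast (show c χ ≤ -1 by omega)
        have hcm : (c χ : ℝ) = -1 := by nlinarith
        rw [hcm] at e ⊢
        linarith
  rw [Finset.sum_congr rfl hfin, ← Finset.mul_sum,
    show ∑ χ ∈ R, (c χ : ℝ) ^ 2 = 6 by exact_mod_cast hsq6] at hD'
  norm_num at hD'

end CfsgLib.FpfFour
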