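import Cfsg.Agent.Lib.FpfFour.Core
import Cfsg.Agent.S0118
import Cfsg.Agent.Lib.TransferApps
import Cfsg.Agent.Lib.ZJ.Center

/-!
Local structure of a minimal insoluble group with a fixed-point-free automorphism `φ`, `φ ^ 4 = 1`.
-/

set_option autoImplicit false
set_option linter.unusedSectionVars false

namespace CfsgLib.FpfFour

open Cfsg.Agent.S3794 Subgroup
open scoped Pointwise

universe u

variable {G : Type u} [Group G] [Finite G]

/-- The minimal situation. -/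
structure Min (φ : MulAut G) : Prop where
  h4 : φ ^ 4 = 1
  hfpf : ∀ g, φ g = g → g = 1
  perfect : commutator G = ⊤
  center : Subgroup.center G = ⊥
  solv : ∀ X : Subgroup G, IsStable φ X → X ≠ ⊤ → Group.IsSolvable X
  proper : ∀ X : Subgroup G, IsStable φ X → X ≠ ⊥ → X ≠ ⊤ → Subgroup.normalizer (X : Set G) ≠ ⊤

variable {φ : MulAut G} (hm : Min φ)
include hm

theorem Min.centralizer_ne_top {S : Set G} {x : G} (hx : x ∈ S) (hx1 : x ≠ 1) :
    Subgroup.centralizer S ≠ ⊤ := fun h => by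
  refine hx1 (Subgroup.mem_bot.mp (hm.center ▸ Subgroup.mem_center_iff.mpr fun g => ?_))
  exact (Subgroup.mem_centralizer_iff.mp (h ▸ Subgroup.mem_top g) x hx).symm

theorem commute_tau {X : Subgroup G} (hX : IsStable φ X) (hXt : X ≠ ⊤) {p q : ℕ} [Fact p.Prime]
    [Fact q.Prime] (hpq : p ≠ q) {x y : G} (hx : x ∈ Tau (φ := φ) X hX) (hxp : ∃ k, x ^ p ^ k = 1)
    (hy : y ∈ Tau (φ := φ) X hX) (hyq : ∃ k, y ^ q ^ k = 1) : x * y = y * x := by
  obtain ⟨O, -, hOp, -, hOn, hOm⟩ := exists_core hm.h4 hm.hfpf X hX (hm.solv X hX hXt) p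
  obtain ⟨R, -, hRq, -, hRn, hRm⟩ := exists_core hm.h4 hm.hfpf X hX (hm.solv X hX hXt) q
  have hxO := hOm x hx hxp
  have hyR := hRm y hy hyq
  have h1 : x * y * x⁻¹ * y⁻¹ ∈ O := by
    have := O.mul_mem hxO ((Subgroup.mem_normalizer_iff.mp (hOn (tau_le X hX hy)) x⁻¹).mp (O.inv_mem hxO))
    simpa [mul_assoc] using this
  have h2 : x * y * x⁻¹ * y⁻¹ ∈ R :=
    R.mul_mem ((Subgroup.mem_normalizer_iff.mp (hRn (tau_le X hX hx)) y).mp hyR) (R.inv_mem hyR)
  exact mul_inv_eq_iff_eq_mul.mp (mul_inv_eq_one.mp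
    (Subgroup.disjoint_def.mp (IsPGroup.disjoint_of_ne p q hpq O R hOp hRq) h1 h2))

theorem sylow_ne_top {p : ℕ} [Fact p.Prime] (P : Sylow p G) (hne : (P : Subgroup G) ≠ ⊥) :
    (P : Subgroup G) ≠ ⊤ := fun h => by
  have hG : IsPGroup p G := fun g => by
    obtain ⟨k, hk⟩ := P.isPGroup' ⟨g, h ▸ Subgroup.mem_top g⟩
    exact ⟨k, congrArg Subtype.val hk⟩
  have : Nontrivial G := ⟨by
    obtain ⟨x, -, hx⟩ := (Subgroup.bot_or_exists_ne_one _).resolve_left hne
    exact ⟨x, 1, hx⟩⟩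
  have := hG.center_nontrivial
  exact (Subgroup.nontrivial_iff_ne_bot _).mp inferInstance hm.center

theorem no_sl2 {p : ℕ} [Fact p.Prime] (hp : p ≠ 2) :
    ¬ ∃ (H K : Subgroup G) (hK : (K.subgroupOf H).Normal),
      Nonempty ((H ⧸ K.subgroupOf H) ≃* Matrix.SpecialLinearGroup (Fin 2) (ZMod p)) := by
  rintro ⟨H, K, hK, ⟨e⟩⟩
  haveI : Fact (2 < p) := ⟨lt_of_le_of_ne (Fact.out : p.Prime).two_le (Ne.symm hp)⟩
  have h1 : orderOf (e.symm (-1)) = 2 := by
    rw [e.symm.orderOf_eq]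
    refine orderOf_eq_prime (by simp) fun h => ?_
    have h2 := congrArg (fun M : Matrix.SpecialLinearGroup (Fin 2) (ZMod p) => (M : Matrix (Fin 2) (Fin 2) (ZMod p)) 0 0) h
    simp at h2
    exact ZMod.neg_one_ne_one h2
  have h3 : 2 ∣ Nat.card G := by
    refine Dvd.dvd.trans (dvd_trans (dvd_of_eq h1.symm) (_root_.orderOf_dvd_natCard _)) ?_
    exact ((K.subgroupOf H).card_quotient_dvd_card).trans (Subgroup.card_subgroup_dvd_card H)
  exact (Nat.not_even_iff_odd.mpr (odd_card hm.h4 hm.hfpf)) (even_iff_two_dvd.mpr h3)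

/-- `Z(J(P))` controls transfer and fusion in a proper invariant subgroup. -/
theorem exists_control {p : ℕ} [Fact p.Prime] (P : Sylow p G) (hP : IsStable φ (P : Subgroup G))
    (hne : (P : Subgroup G) ≠ ⊥) : ∃ N : Subgroup G, IsStable φ N ∧ N ≠ ⊤ ∧ (P : Subgroup G) ≤ N ∧
      ∀ x ∈ (P : Subgroup G), ∀ g : G, g * x * g⁻¹ ∈ (P : Subgroup G) → ∃ n ∈ N, n * x * n⁻¹ = g * x * g⁻¹ := by
  have hp2 : p ≠ 2 := by
    rintro rfl
    obtain ⟨x, hx, hx1⟩ := (Subgroup.bot_or_exists_ne_one _).resolve_left hne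
    obtain ⟨k, hk⟩ := P.isPGroup' ⟨x, hx⟩
    refine hx1 (orderOf_eq_one_iff.mp (Nat.eq_one_of_dvd_coprimes
      ((Nat.coprime_two_right.mpr (odd_card hm.h4 hm.hfpf)).pow_right k) (orderOf_dvd_natCard x)
      (orderOf_dvd_of_pow_eq_one (congrArg Subtype.val hk))))
  set Z := CfsgLib.ZJ.zj p (P : Subgroup G) with hZ
  have hZs : IsStable φ Z := fun x hx => by
    have h := CfsgLib.ZJ.zj_map p (f := φ.toMonoidHom) φ.injective (P : Subgroup G)
    rw [hP.map_eq] at h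
    rw [hZ, h]
    exact ⟨x, hx, rfl⟩
  have hZne : Z ≠ ⊥ := CfsgLib.ZJ.zj_ne_bot (Or.inr rfl) P.isPGroup' hne
  have hZt : Z ≠ ⊤ := fun h => sylow_ne_top hm P hne (top_le_iff.mp (h ▸ CfsgLib.ZJ.zj_le p _))
  refine ⟨Subgroup.normalizer (Z : Set G), hZs.normalizer, hm.proper Z hZs hZne hZt,
    Subgroup.le_normalizer.trans (CfsgLib.ZJ.normalizer_le_normalizer_zj p _), fun x hx g hg => ?_⟩
  obtain ⟨n, hn, he⟩ := Cfsg.Agent.S0118.result hp2 (no_sl2 hm hp2) P {x} (Set.singleton_subset_iff.mpr hx) g⁻¹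
    (by rintro _ ⟨a, ha, rfl⟩; rw [Set.mem_singleton_iff.mp ha]; simp only [inv_inv]; exact hg)
  rw [← CfsgLib.ZJ.zj_prime] at hn
  exact ⟨n⁻¹, inv_mem hn, by simpa using he x rfl⟩

/-- An invariant Sylow subgroup is generated by its inverted elements. -/
theorem sylow_gen {p : ℕ} [Fact p.Prime] (P : Sylow p G) (hP : IsStable φ (P : Subgroup G)) :
    (P : Subgroup G) ≤ Subgroup.closure {x | x ∈ (P : Subgroup G) ∧ Inv φ x} := by
  rcases eq_or_ne (P : Subgroup G) ⊥ with h | hne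
  · rw [h]; exact bot_le
  obtain ⟨N, hN, hNt, hPN, hc⟩ := exists_control hm P hP hne
  set T := Tau (φ := φ) N hN with hT
  have hPT : (P : Subgroup G) ≤ T := by
    intro x hx
    have h1 : x ∈ ⁅N, N⁆ ⊓ (P : Subgroup G) := by
      rw [← CfsgLib.TransferApps.commutator_inf_sylow_eq_of_control P N hc hPN, hm.perfect, top_inf_eq]
      exact hx
    refine (Subgroup.commutator_le.mpr fun a ha b hb => ?_ : ⁅N, N⁆ ≤ T) h1.1
    rw [commutatorElement_def]
    exact commutator_mem_tau hm.h4 hm.hfpf N hN ha hb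
  -- a complement in `T`
  set C := Subgroup.closure {x | x ∈ (P : Subgroup G) ∧ Inv φ x} with hC
  have hCP : C ≤ (P : Subgroup G) := (Subgroup.closure_le _).mpr fun x hx => hx.1
  have hnil := tau_nilpotent hm.h4 hm.hfpf N hN (hm.solv N hN hNt)
  let PT : Sylow p T := P.subtype hPT
  have hPTn : (PT : Subgroup T).Normal :=
    Sylow.normal_of_normalizerCondition Group.normalizerCondition_of_isNilpotent PT
  obtain ⟨K₀, hK₀⟩ := Subgroup.exists_left_complement'_of_coprime (N := (PT : Subgroup T)) PT.card_coprime_index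
  have hmemP : ∀ x ∈ T, (∃ k, x ^ p ^ k = 1) → x ∈ (P : Subgroup G) := by
    intro x hx hk
    obtain ⟨O, -, hOp, hOs, -, hOm⟩ := exists_core hm.h4 hm.hfpf N hN (hm.solv N hN hNt) p
    exact le_sylow hm.h4 hm.hfpf P hP hOp hOs (hOm x hx hk)
  set K := K₀.map T.subtype with hK
  have hKcop : ∀ k ∈ K, (orderOf k).Coprime p := by
    rintro _ ⟨k, hk, rfl⟩
    rw [orderOf_injective T.subtype T.subtype_injective]
    refine Nat.Coprime.coprime_dvd_left ((Subgroup.orderOf_mk k hk ▸ orderOf_dvd_natCard (⟨k, hk⟩ : K₀) :)) ?_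
    rw [← hK₀.index_eq_card]
    exact ((Fact.out : p.Prime).coprime_iff_not_dvd.mpr PT.not_dvd_index).symm
  have hKcomm : ∀ k ∈ K, ∀ x ∈ (P : Subgroup G), x * k = k * x := by
    intro k hk x hx
    have : k ∈ Subgroup.centralizer ({x} : Set G) := by
      refine mem_of_primary _ k fun q hq n j hj => ?_
      haveI := Fact.mk hq
      rcases eq_or_ne q p with rfl | hqp
      · have h1 : k ^ n = 1 := orderOf_eq_one_iff.mp (Nat.eq_one_of_dvd_coprimes
          (((hKcop _ (K.pow_mem hk n))).pow_right j) dvd_rfl (orderOf_dvd_of_pow_eq_one hj))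
        rw [h1]; exact Subgroup.one_mem _
      · rw [Subgroup.mem_centralizer_singleton_iff]
        refine (commute_tau hm hN hNt (Ne.symm hqp) (hPT hx) ?_ (T.pow_mem (Subgroup.map_subtype_le _ hk) n) ⟨j, hj⟩).symm
        obtain ⟨i, hi⟩ := P.isPGroup' ⟨x, hx⟩
        exact ⟨i, congrArg Subtype.val hi⟩
    exact (Subgroup.mem_centralizer_singleton_iff.mp this).symm
  have hsplit : ∀ t ∈ T, ∃ k ∈ K, ∃ x ∈ (P : Subgroup G), t = k * x := by
    intro t ht
    obtain ⟨⟨⟨k, hk⟩, ⟨x, hx⟩⟩, he⟩ := hK₀.existsUnique ⟨t, ht⟩ |>.exists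
    exact ⟨k, ⟨k, hk, rfl⟩, x, hx, (congrArg Subtype.val he).symm⟩
  have hKC : K ≤ Subgroup.normalizer (C : Set G) := by
    intro k hk
    have e : ∀ y ∈ C, k * y * k⁻¹ = y := fun y hy => by
      rw [← hKcomm k hk y (hCP hy), mul_inv_cancel_right]
    rw [Subgroup.mem_normalizer_iff]
    refine fun y => ⟨fun hy => (e y hy).symm ▸ hy, fun hy => ?_⟩
    have h1 := e _ hy
    have : y = k * y * k⁻¹ := by
      calc y = k⁻¹ * (k * y * k⁻¹) * k := by group
        _ = k⁻¹ * (k * (k * y * k⁻¹) * k⁻¹) * k := by rw [h1]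
        _ = k * y * k⁻¹ := by group
    exact this ▸ hy
  intro x hx
  have h1 : x ∈ K ⊔ C := by
    refine (((tau_le_closure hm.h4 hm.hfpf N hN).trans ((Subgroup.closure_le _).mpr ?_)) (hPT hx))
    rintro y ⟨hyN, hyi⟩
    refine mem_of_primary _ y fun q hq n j hj => ?_
    haveI := Fact.mk hq
    have hyT := mem_tau hm.h4 hm.hfpf N hN (N.pow_mem hyN n) (hyi.pow n)
    rcases eq_or_ne q p with rfl | hqp
    · exact Subgroup.mem_sup_right (Subgroup.subset_closure ⟨hmemP _ hyT ⟨j, hj⟩, hyi.pow n⟩)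
    · obtain ⟨k, hk, z, hz, he⟩ := hsplit _ hyT
      have h2 : Commute k z := (hKcomm k hk z hz).symm
      obtain ⟨i, hi⟩ := P.isPGroup' ⟨z, hz⟩
      have hi' : z ^ p ^ i = 1 := congrArg Subtype.val hi
      have h3 : z ^ q ^ j ∈ K := by
        have : k ^ q ^ j * z ^ q ^ j = 1 := by rw [← h2.mul_pow, ← he, hj]
        rw [eq_inv_of_mul_eq_one_right this]
        exact K.inv_mem (K.pow_mem hk _)
      have h4 : z ^ q ^ j = 1 := orderOf_eq_one_iff.mp (Nat.eq_one_of_dvd_coprimes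
        ((hKcop _ h3).pow_right i) dvd_rfl (orderOf_dvd_of_pow_eq_one (by rw [← pow_mul, mul_comm, pow_mul, hi', one_pow])))
      have h5 : z = 1 := orderOf_eq_one_iff.mp (Nat.eq_one_of_dvd_coprimes
        (Nat.Coprime.pow j i ((Nat.coprime_primes hq (Fact.out : p.Prime)).mpr hqp))
        (orderOf_dvd_of_pow_eq_one h4) (orderOf_dvd_of_pow_eq_one hi'))
      rw [he, h5, mul_one]
      exact Subgroup.mem_sup_left hk
  have h1' : x ∈ ((K ⊔ C : Subgroup G) : Set G) := h1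
  rw [Subgroup.coe_mul_of_left_le_normalizer_right K C hKC] at h1'
  obtain ⟨k, hk, c, hc, rfl⟩ := h1'
  have hkP : k ∈ (P : Subgroup G) := by
    have := (P : Subgroup G).mul_mem hx ((P : Subgroup G).inv_mem (hCP hc))
    simpa using this
  obtain ⟨i, hi⟩ := P.isPGroup' ⟨k, hkP⟩
  have hk1 : k = 1 := orderOf_eq_one_iff.mp (Nat.eq_one_of_dvd_coprimes ((hKcop k hk).pow_right i) dvd_rfl
    (orderOf_dvd_of_pow_eq_one (congrArg Subtype.val hi)))
  simpa [hk1] using hc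

/-- An invariant proper subgroup containing `P` normalizes it. -/
theorem le_normalizer_sylow {p : ℕ} [Fact p.Prime] (P : Sylow p G) (hP : IsStable φ (P : Subgroup G))
    {X : Subgroup G} (hX : IsStable φ X) (hXt : X ≠ ⊤) (hPX : (P : Subgroup G) ≤ X) :
    X ≤ Subgroup.normalizer ((P : Subgroup G) : Set G) := by
  obtain ⟨O, hOX, hOp, -, hOn, hOm⟩ := exists_core hm.h4 hm.hfpf X hX (hm.solv X hX hXt) p
  have hPO : (P : Subgroup G) ≤ O := (sylow_gen hm P hP).trans ((Subgroup.closure_le _).mpr fun x hx => by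
    obtain ⟨i, hi⟩ := P.isPGroup' ⟨x, hx.1⟩
    exact hOm x (mem_tau hm.h4 hm.hfpf X hX (hPX hx.1) hx.2) ⟨i, congrArg Subtype.val hi⟩)
  rw [← P.is_maximal' hOp hPO]
  exact hOn

theorem normalizer_sylow_ne_top {p : ℕ} [Fact p.Prime] (P : Sylow p G) (hP : IsStable φ (P : Subgroup G))
    (hne : (P : Subgroup G) ≠ ⊥) : Subgroup.normalizer ((P : Subgroup G) : Set G) ≠ ⊤ :=
  hm.proper _ hP hne (sylow_ne_top hm P hne)

/-- A centralizer containing a Sylow subgroup lies in its normalizer. -/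
theorem centralizer_le_normalizer {p : ℕ} [Fact p.Prime] (P : Sylow p G) (hP : IsStable φ (P : Subgroup G))
    {W : Subgroup G} (hW : IsStable φ W) (hW1 : W ≠ ⊥) (hPW : (P : Subgroup G) ≤ Subgroup.centralizer (W : Set G)) :
    Subgroup.centralizer (W : Set G) ≤ Subgroup.normalizer ((P : Subgroup G) : Set G) := by
  obtain ⟨x, hx, hx1⟩ := (Subgroup.bot_or_exists_ne_one _).resolve_left hW1
  exact le_normalizer_sylow hm P hP hW.centralizer (hm.centralizer_ne_top hx hx1) hPW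

/-- The inverted part of `Z(P)` has its invariant overgroups in `N(P)`. -/
theorem le_normalizer_of_inverted_center {p : ℕ} [Fact p.Prime] (P : Sylow p G)
    (hP : IsStable φ (P : Subgroup G)) {z : G} (hzP : z ∈ (P : Subgroup G)) (hzi : Inv φ z) (hz1 : z ≠ 1)
    (hzc : ∀ y ∈ (P : Subgroup G), z * y = y * z) {T : Subgroup G} (hT : IsStable φ T) (hTt : T ≠ ⊤)
    (hzT : z ∈ T) (hzT' : φ z ∈ T) : T ≤ Subgroup.normalizer ((P : Subgroup G) : Set G) := by
  obtain ⟨T0, ⟨hTT0, hT0s, hT0t⟩, hmax⟩ := (Set.toFinite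
    {S : Subgroup G | T ≤ S ∧ IsStable φ S ∧ S ≠ ⊤}).exists_maximal ⟨T, le_rfl, hT, hTt⟩
  refine hTT0.trans ?_
  set M := Subgroup.normalizer ((P : Subgroup G) : Set G) with hM
  set W := Subgroup.closure ({z, φ z} : Set G) with hW
  have hWs : IsStable φ W := IsStable.closure fun x hx => by
    rcases hx with rfl | rfl
    · exact Subgroup.subset_closure (Or.inr rfl)
    · rw [show φ (φ z) = z⁻¹ from hzi]
      exact Subgroup.inv_mem _ (Subgroup.subset_closure (Or.inl rfl))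
  have hW1 : W ≠ ⊥ := fun h => hz1 (Subgroup.mem_bot.mp (h ▸ Subgroup.subset_closure (Or.inl rfl)))
  have hCW : Subgroup.centralizer (W : Set G) ≤ M := by
    refine centralizer_le_normalizer hm P hP hWs hW1 ?_
    rw [Subgroup.le_centralizer_iff, hW, Subgroup.closure_le]
    intro x hx y hy
    rcases hx with rfl | rfl
    · exact (hzc y hy).symm
    · obtain ⟨y', hy', rfl⟩ := hP.surj hy
      rw [← map_mul, ← map_mul, hzc y' hy']
  set P1 := (P : Subgroup G) ⊓ T0 with hP1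
  obtain ⟨O, hOT, hOp, hOs, -, hOm⟩ := exists_core hm.h4 hm.hfpf T0 hT0s (hm.solv T0 hT0s hT0t) p
  have hOP1 : O ≤ P1 := le_inf (le_sylow hm.h4 hm.hfpf P hP hOp hOs) hOT
  have hpp : ∀ x ∈ (P : Subgroup G), ∃ k, x ^ p ^ k = 1 := fun x hx => by
    obtain ⟨i, hi⟩ := P.isPGroup' ⟨x, hx⟩
    exact ⟨i, congrArg Subtype.val hi⟩
  have hWm : ∀ w ∈ ({z, φ z} : Set G), w ∈ Tau (φ := φ) T0 hT0s ∧ ∃ k, w ^ p ^ k = 1 := by
    intro w hw
    rcases hw with rfl | rfl
    · exact ⟨mem_tau hm.h4 hm.hfpf T0 hT0s (hTT0 hzT) hzi, hpp _ hzP⟩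
    · exact ⟨mem_tau hm.h4 hm.hfpf T0 hT0s (hTT0 hzT') hzi.map, hpp _ (hP _ hzP)⟩
  have hqel : ∀ x ∈ P1, ∀ d ∈ Tau (φ := φ) T0 hT0s, ∀ q : ℕ, q.Prime → q ≠ p → (∃ k, d ^ q ^ k = 1) →
      x * d = d * x := by
    intro x hx d hd q hq hqp hdq
    haveI := Fact.mk hq
    have hdM : d ∈ M := hCW (by
      rw [hW, Subgroup.centralizer_closure, Subgroup.mem_centralizer_iff]
      exact fun w hw => commute_tau hm hT0s hT0t (Ne.symm hqp) (hWm w hw).1 (hWm w hw).2 hd hdq)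
    obtain ⟨R, -, hRq, -, hRn, hRm⟩ := exists_core hm.h4 hm.hfpf T0 hT0s (hm.solv T0 hT0s hT0t) q
    have hdR := hRm d hd hdq
    have h1 : x * d * x⁻¹ * d⁻¹ ∈ (P : Subgroup G) := by
      have := (P : Subgroup G).mul_mem hx.1 ((Subgroup.mem_normalizer_iff.mp hdM x⁻¹).mp ((P : Subgroup G).inv_mem hx.1))
      simpa [mul_assoc] using this
    have h2 : x * d * x⁻¹ * d⁻¹ ∈ R :=
      R.mul_mem ((Subgroup.mem_normalizer_iff.mp (hRn hx.2) d).mp hdR) (R.inv_mem hdR)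
    exact mul_inv_eq_iff_eq_mul.mp (mul_inv_eq_one.mp
      (Subgroup.disjoint_def.mp (IsPGroup.disjoint_of_ne p q (Ne.symm hqp) _ R P.isPGroup' hRq) h1 h2))
  have hnorm : ∀ t ∈ T0, ∀ x ∈ P1, t * x * t⁻¹ ∈ P1 := by
    intro t ht x hx
    refine ⟨?_, T0.mul_mem (T0.mul_mem ht hx.2) (T0.inv_mem ht)⟩
    set c := t * x * t⁻¹ * x⁻¹ with hcdef
    have hc : c ∈ Tau (φ := φ) T0 hT0s := commutator_mem_tau hm.h4 hm.hfpf T0 hT0s ht hx.2
    obtain ⟨a, b, hb, hab⟩ := Nat.exists_eq_pow_mul_and_not_dvd (orderOf_pos c).ne' p (Fact.out : p.Prime).ne_one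
    have hcop : Int.gcd (b : ℤ) ((p ^ a : ℕ) : ℤ) = 1 :=
      (((Fact.out : p.Prime).coprime_iff_not_dvd.mpr hb).symm.pow_right a)
    obtain ⟨u, v, huv⟩ := Int.gcd_dvd_iff.mp (show Int.gcd (b : ℤ) ((p ^ a : ℕ) : ℤ) ∣ 1 by rw [hcop])
    have hce : c = (c ^ p ^ a) ^ v * (c ^ b) ^ u := by
      rw [← zpow_natCast c b, ← zpow_natCast c (p ^ a), ← zpow_mul, ← zpow_mul, ← zpow_add,
        add_comm, ← huv]
      simp
    have hcp : (c ^ b) ^ u ∈ P1 := P1.zpow_mem (hOP1 (hOm _ (Subgroup.pow_mem _ hc b) ⟨a, by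
      rw [← pow_mul, mul_comm, ← hab, pow_orderOf_eq_one]⟩)) u
    set c' := (c ^ p ^ a) ^ v with hc'
    have hc'b : c' ^ b = 1 := by
      rw [hc', ← zpow_natCast ((c ^ p ^ a) ^ v), ← zpow_mul, mul_comm, zpow_mul, zpow_natCast, ← pow_mul, ← hab,
        pow_orderOf_eq_one, one_zpow]
    set y := (c ^ b) ^ u * x with hy
    have hyP : y ∈ P1 := P1.mul_mem hcp hx
    have hcomm : Commute c' y := by
      have : c' ∈ Subgroup.centralizer ({y} : Set G) := by
        refine mem_of_primary _ c' fun q hq n j hj => ?_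
        rcases eq_or_ne q p with rfl | hqp
        · have h1 : c' ^ n = 1 := orderOf_eq_one_iff.mp (Nat.eq_one_of_dvd_coprimes
            (((Fact.out : q.Prime).coprime_iff_not_dvd.mpr hb).pow_left j)
            (orderOf_dvd_of_pow_eq_one hj) (orderOf_dvd_of_pow_eq_one (by rw [← pow_mul, mul_comm, pow_mul, hc'b, one_pow])))
          rw [h1]; exact Subgroup.one_mem _
        · rw [Subgroup.mem_centralizer_singleton_iff]
          exact (hqel y hyP _ (Subgroup.pow_mem _ (Subgroup.zpow_mem _ (Subgroup.pow_mem _ hc _) _) n) q hq hqp ⟨j, hj⟩).symm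
      exact Subgroup.mem_centralizer_singleton_iff.mp this
    have e : t * x * t⁻¹ = c' * y := by
      rw [hy, ← mul_assoc, ← hce, hcdef, inv_mul_cancel_right]
    obtain ⟨i, hi⟩ := hpp x hx.1
    obtain ⟨j, hj⟩ := hpp y hyP.1
    have h2 : (c' * y) ^ p ^ (i + j) = 1 := by
      rw [← e, conj_pow, pow_add, pow_mul, hi, one_pow, mul_one, mul_inv_cancel]
    rw [hcomm.mul_pow, pow_add, pow_mul y, pow_right_comm y, hj, one_pow, mul_one] at h2
    have h3 : c' = 1 := orderOf_eq_one_iff.mp (Nat.eq_one_of_dvd_coprimes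
      (((Fact.out : p.Prime).coprime_iff_not_dvd.mpr hb).pow_left (i + j))
      (orderOf_dvd_of_pow_eq_one (by rw [pow_add]; exact h2)) (orderOf_dvd_of_pow_eq_one hc'b))
    rw [e, h3, one_mul]
    exact hyP.1
  have hT0N : T0 ≤ Subgroup.normalizer (P1 : Set G) := fun t ht => by
    rw [Subgroup.mem_normalizer_iff]
    refine fun x => ⟨hnorm t ht x, fun hx => ?_⟩
    have := hnorm t⁻¹ (T0.inv_mem ht) _ hx
    simpa [mul_assoc] using this
  have hP1s : IsStable φ P1 := hP.inf hT0s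
  have hzP1 : z ∈ P1 := ⟨hzP, hTT0 hzT⟩
  have hNt : Subgroup.normalizer (P1 : Set G) ≠ ⊤ := hm.proper P1 hP1s
    (fun h => hz1 (Subgroup.mem_bot.mp (h ▸ hzP1)))
    (fun h => sylow_ne_top hm P (fun h' => hz1 (Subgroup.mem_bot.mp (h' ▸ hzP))) (top_le_iff.mp (h ▸ inf_le_left)))
  have hT0eq := hmax ⟨hTT0.trans hT0N, hP1s.normalizer, hNt⟩ hT0N
  refine le_normalizer_sylow hm P hP hT0s hT0t ?_
  by_contra hle
  have hlt : P1.subgroupOf (P : Subgroup G) < ⊤ := lt_top_iff_ne_top.mpr fun e =>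
    hle ((Subgroup.subgroupOf_eq_top.mp e).trans inf_le_right)
  haveI : Group.IsNilpotent (P : Subgroup G) := P.isPGroup'.isNilpotent
  obtain ⟨x, hx, hxn⟩ := SetLike.exists_of_lt (Group.normalizerCondition_of_isNilpotent _ hlt)
  refine hxn (Subgroup.mem_subgroupOf.mpr ⟨x.2, hT0eq ?_⟩)
  rw [Subgroup.mem_normalizer_iff]
  intro w
  constructor
  · intro hw
    exact (Subgroup.mem_normalizer_iff.mp hx ⟨w, hw.1⟩).mp hw
  · intro hw
    have hwP : w ∈ (P : Subgroup G) := by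
      have := (P : Subgroup G).mul_mem ((P : Subgroup G).mul_mem ((P : Subgroup G).inv_mem x.2) hw.1) x.2
      simpa [mul_assoc] using this
    exact (Subgroup.mem_normalizer_iff.mp hx ⟨w, hwP⟩).mpr hw

end CfsgLib.FpfFour
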