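import Cfsg.Agent.Lib.FpfFour.Pairs
import Cfsg.Agent.Lib.FpfFour.Count

/-!
A finite group with a fixed-point-free automorphism of order dividing four is solvable.
-/

set_option autoImplicit false
set_option linter.unusedSectionVars false

namespace CfsgLib.FpfFour

open Cfsg.Agent.S3794 Subgroup
open scoped Pointwise

universe u

/-- Two homomorphisms detecting `P ∩ fixA φ` and `Q ∩ fixA φ`. -/
theorem exists_detect {A : Type u} [CommGroup A] [Finite A] {p : ℕ} [Fact p.Prime] {a0 : A} (ha0 : a0 ≠ 1)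
    (hp0 : ∃ k, a0 ^ p ^ k = 1) :
    ∃ lam : A →* ℂˣ, lam a0 ≠ 1 ∧ (∀ a, (orderOf a).Coprime p → lam a = 1) ∧
      ∀ a, lam a ≠ 1 → ∃ n : ℕ, a ^ n ≠ 1 ∧ ∃ k, (a ^ n) ^ p ^ k = 1 := by
  obtain ⟨h, hh⟩ := CommGroup.exists_apply_ne_one_of_hasEnoughRootsOfUnity A ℂ ha0
  obtain ⟨e, m, hm, hcard⟩ := Nat.exists_eq_pow_mul_and_not_dvd (Nat.card_pos (α := A)).ne' p
    (Fact.out : p.Prime).ne_one
  refine ⟨h.comp (powMonoidHom m), fun hc => ?_, fun a ha => ?_, fun a hne => ⟨m, ?_, e, ?_⟩⟩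
  · obtain ⟨k, hk⟩ := hp0
    have h1 : h a0 ^ m = 1 := by rw [← map_pow]; exact hc
    have h2 : h a0 ^ p ^ k = 1 := by rw [← map_pow, hk, map_one]
    exact hh (orderOf_eq_one_iff.mp (Nat.eq_one_of_dvd_coprimes
      (((Fact.out : p.Prime).coprime_iff_not_dvd.mpr hm).pow_left k)
      (orderOf_dvd_of_pow_eq_one h2) (orderOf_dvd_of_pow_eq_one h1)))
  · have h2 : orderOf a ∣ m :=
      (ha.pow_right e).dvd_of_dvd_mul_left (hcard ▸ _root_.orderOf_dvd_natCard a)
    show h (a ^ m) = 1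
    rw [orderOf_dvd_iff_pow_eq_one.mp h2, map_one]
  · intro h1
    exact hne (by show h (a ^ m) = 1; rw [h1, map_one])
  · rw [← pow_mul, mul_comm, ← hcard, pow_card_eq_one']

variable {G : Type u} [Group G] [Finite G] {φ : MulAut G}

theorem Min.false (hm : Min φ) [Nontrivial G] : False := by
  classical
  set A := fixA φ with hA
  rcases eq_or_ne A ⊥ with hA1 | hA1
  · -- `φ²` inverts everything, so `G` is abelian
    have hinv : ∀ g : G, φ (φ g) = g⁻¹ := by
      intro g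
      obtain ⟨i, a, -, hi, -, ha, rfl⟩ := decomp hm.h4 hm.hfpf (X := ⊤) (fun _ _ => mem_top _) (mem_top g)
      rw [(Subgroup.eq_bot_iff_forall _).mp hA1 a ha, mul_one]
      exact hi
    have hcomm : ∀ a b : G, a * b = b * a := fun a b => by
      have h := hinv (a * b)
      rw [map_mul, map_mul, hinv, hinv, ← mul_inv_rev, inv_inj] at h
      exact h.symm
    obtain ⟨x, hx⟩ := exists_ne (1 : G)
    exact hx (Subgroup.mem_bot.mp (hm.center ▸ Subgroup.mem_center_iff.mpr fun g => hcomm g x))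
  obtain ⟨a1, ha1A, ha11⟩ := (Subgroup.bot_or_exists_ne_one A).resolve_left hA1
  set p := (orderOf a1).minFac with hp
  have hord : orderOf a1 ≠ 1 := fun h => ha11 (orderOf_eq_one_iff.mp h)
  haveI := Fact.mk (Nat.minFac_prime hord)
  set a0 := a1 ^ (orderOf a1 / p) with ha0
  have ha0o : orderOf a0 = p := orderOf_pow_orderOf_div (orderOf_pos a1).ne' (Nat.minFac_dvd _)
  have ha0A : a0 ∈ A := A.pow_mem ha1A _
  have ha0ne : a0 ≠ 1 := fun h => (Fact.out : p.Prime).ne_one (by rw [← ha0o, h, orderOf_one])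
  -- invariant Sylow subgroups contain fixed prime power elements
  have hmemS : ∀ {r : ℕ} [Fact r.Prime] (R : Sylow r G), IsStable φ (R : Subgroup G) →
      ∀ x ∈ A, (∃ k, x ^ r ^ k = 1) → x ∈ (R : Subgroup G) := by
    intro r _ R hR x hx ⟨k, hk⟩
    refine le_sylow hm.h4 hm.hfpf R hR ?_ ?_ (mem_zpowers x)
    · rintro ⟨y, j, rfl⟩
      exact ⟨k, Subtype.ext (by
        show (x ^ j) ^ r ^ k = 1
        rw [← zpow_natCast (x ^ j), ← zpow_mul, mul_comm, zpow_mul, zpow_natCast, hk, one_zpow])⟩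
    · rintro y ⟨j, rfl⟩
      show φ (x ^ j) ∈ _
      rw [map_zpow, apply_fixA hm.h4 hm.hfpf hx, inv_zpow]
      exact inv_mem (zpow_mem (mem_zpowers _) _)
  obtain ⟨P, hP⟩ := exists_sylow_stable hm.h4 hm.hfpf p
  have ha0P : a0 ∈ (P : Subgroup G) := hmemS P hP a0 ha0A ⟨1, by rw [pow_one, ← ha0o, pow_orderOf_eq_one]⟩
  have hPne : (P : Subgroup G) ≠ ⊥ := fun h => ha0ne ((Subgroup.eq_bot_iff_forall _).mp h _ ha0P)
  obtain ⟨q, hq, hqp, Q, hQ, hact⟩ := exists_acts hm P hP hPne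
  haveI := Fact.mk hq
  obtain ⟨hAP, -⟩ := key_element hm P hP ha0P ha0A ha0ne
  obtain ⟨b0, hb0Q, hb0A, x0, hx0, hne0⟩ := id hact
  have hb0ne : b0 ≠ 1 := fun h => hne0 (by rw [h]; simp)
  obtain ⟨hAQ, -⟩ := key_element hm Q hQ hb0Q hb0A hb0ne
  have hact' := acts_symm hm hqp.symm P hP Q hQ ha0P ha0A ha0ne hact
  have hML := normalizer_inf_le hm hqp.symm P hP Q hQ hAP hAQ hact hact'
  -- regular elements
  have hreg0 : ∀ a ∈ A, (∃ n : ℕ, a ^ n ≠ 1 ∧ ∃ k, (a ^ n) ^ p ^ k = 1) →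
      (∃ n : ℕ, a ^ n ≠ 1 ∧ ∃ k, (a ^ n) ^ q ^ k = 1) → Subgroup.centralizer ({a} : Set G) ≤ A := by
    rintro a ha ⟨n, hn, hnp⟩ ⟨l, hl, hlq⟩ x hx
    have hpowc : ∀ j : ℕ, x ∈ Subgroup.centralizer ({a ^ j} : Set G) := fun j => by
      rw [Subgroup.mem_centralizer_singleton_iff] at hx ⊢
      exact (show Commute x a from hx).pow_right j
    refine hML ⟨?_, ?_⟩
    · exact centralizer_le hm hqp.symm P hP Q hQ hAP hAQ hact (hmemS P hP _ (A.pow_mem ha n) hnp)
        (A.pow_mem ha n) hn (hpowc n)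
    · exact centralizer_le hm hqp Q hQ P hP hAQ hAP hact' (hmemS Q hQ _ (A.pow_mem ha l) hlq)
        (A.pow_mem ha l) hl (hpowc l)
  -- the extension by `φ²`
  set ψ : MulAut G := φ ^ 2 with hψ
  have hψ_apply : ∀ g, ψ g = φ (φ g) := fun g => by rw [hψ, pow_two, MulAut.mul_apply]
  have hψ2 : ψ ^ 2 = 1 := by rw [hψ, ← pow_mul, hm.h4]
  have hψ1 : ψ ≠ 1 := by
    intro h
    have hAtop : ∀ g, g ∈ A := fun g => by
      show φ (φ g) = g
      rw [← hψ_apply, h]; rfl
    obtain ⟨x, hx⟩ := exists_ne (1 : G)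
    exact hx (Subgroup.mem_bot.mp (hm.center ▸ Subgroup.mem_center_iff.mpr fun g =>
      comm_fixA hm.h4 hm.hfpf (hAtop g) (hAtop x)))
  set C := Subgroup.zpowers ψ with hC
  have hCcard : Nat.card C = 2 := by rw [hC, Nat.card_zpowers]; exact orderOf_eq_prime hψ2 hψ1
  let Γ := G ⋊[C.subtype] C
  haveI : Finite Γ := Finite.of_equiv _ SemidirectProduct.equivProd.symm
  haveI : Fintype Γ := Fintype.ofFinite Γ
  let ι : G →* Γ := SemidirectProduct.inl
  have hι : Function.Injective ι := SemidirectProduct.inl_injective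
  set GR : Subgroup Γ := ι.range with hGR
  haveI hGn : GR.Normal := by
    rw [hGR]; show (SemidirectProduct.inl (φ := C.subtype)).range.Normal
    rw [SemidirectProduct.range_inl_eq_ker_rightHom]; infer_instance
  let t : Γ := SemidirectProduct.inr ⟨ψ, mem_zpowers ψ⟩
  have htι : ∀ g, t * ι g = ι (φ (φ g)) * t := fun g => by
    have h := SemidirectProduct.inl_aut (φ := C.subtype) ⟨ψ, mem_zpowers ψ⟩ g
    rw [show C.subtype ⟨ψ, mem_zpowers ψ⟩ g = φ (φ g) from hψ_apply g] at h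
    show t * ι g = SemidirectProduct.inl (φ (φ g)) * t
    rw [h, map_inv]
    show t * ι g = t * ι g * t⁻¹ * t
    rw [inv_mul_cancel_right]
  set AR : Subgroup Γ := A.map ι with hAR
  have hcardG : Nat.card GR = Nat.card G := (Nat.card_congr (MonoidHom.ofInjective hι).toEquiv).symm
  have hcfg : Config GR t AR := by
    refine ⟨?_, ?_, ?_, ?_, ?_, ?_, ?_, ?_⟩
    · have h := Subgroup.card_mul_index GR
      rw [hcardG, show Nat.card Γ = Nat.card G * 2 by
        rw [Nat.card_congr SemidirectProduct.equivProd, Nat.card_prod, hCcard]] at h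
      exact Nat.eq_of_mul_eq_mul_left Nat.card_pos h
    · rw [hcardG]; exact odd_card hm.h4 hm.hfpf
    · rintro ⟨g, hg⟩
      have h2 : (1 : C) = ⟨ψ, mem_zpowers ψ⟩ := congrArg (fun γ : Γ => γ.right) hg
      exact hψ1 (congrArg Subtype.val h2).symm
    · show SemidirectProduct.inr _ * SemidirectProduct.inr _ = 1
      rw [← map_mul, show (⟨ψ, mem_zpowers ψ⟩ : C) * ⟨ψ, mem_zpowers ψ⟩ = 1 from
        Subtype.ext (by show ψ * ψ = 1; rw [← pow_two]; exact hψ2), map_one]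
    · ext x
      constructor
      · rintro ⟨a, ha, rfl⟩
        refine ⟨⟨a, rfl⟩, Subgroup.mem_centralizer_singleton_iff.mpr ?_⟩
        rw [htι, mem_fixA.mp ha]
      · rintro ⟨⟨g, rfl⟩, hc⟩
        have hc := Subgroup.mem_centralizer_singleton_iff.mp hc
        rw [htι] at hc
        exact ⟨g, (hι (mul_right_cancel hc)).symm, rfl⟩
    · rw [hGR, MonoidHom.range_eq_map, ← Subgroup.map_commutator, ← _root_.commutator_def, hm.perfect]
    · rintro _ ⟨a, ha, rfl⟩ _ ⟨b, hb, rfl⟩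
      rw [← map_mul, ← map_mul, comm_fixA hm.h4 hm.hfpf ha hb]
    · rintro _ ⟨a, ha, rfl⟩ _ ⟨b, hb, rfl⟩ _ ⟨g, rfl⟩ h
      rw [← map_inv, ← map_mul, ← map_mul] at h
      rw [fusion hm.h4 hm.hfpf ha hb (hι h)]
  -- the homomorphisms
  haveI : IsMulCommutative AR := ⟨⟨fun a b => Subtype.ext (hcfg.hab _ a.2 _ b.2)⟩⟩
  letI : CommGroup AR := { (inferInstance : Group AR) with mul_comm := fun a b => Subtype.ext (hcfg.hab _ a.2 _ b.2) }
  let A0 : AR := ⟨ι a0, a0, ha0A, rfl⟩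
  let B0 : AR := ⟨ι b0, b0, hb0A, rfl⟩
  have hA0p : A0 ^ p = 1 := Subtype.ext (by
    show ι a0 ^ p = 1
    rw [← map_pow, ← ha0o, pow_orderOf_eq_one, map_one])
  obtain ⟨kb, hkb⟩ := pPow_of_mem hm Q hb0Q
  have hB0q : B0 ^ q ^ kb = 1 := Subtype.ext (by
    show ι b0 ^ q ^ kb = 1
    rw [← map_pow, hkb, map_one])
  obtain ⟨lam, hl0, hl1, hl2⟩ := exists_detect (A := AR) (p := p) (a0 := A0)
    (fun h => ha0ne (hι (by rw [map_one]; exact congrArg Subtype.val h))) ⟨1, by rw [pow_one]; exact hA0p⟩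
  obtain ⟨mu, hm0, hm1, hm2⟩ := exists_detect (A := AR) (p := q) (a0 := B0)
    (fun h => hb0ne (hι (by rw [map_one]; exact congrArg Subtype.val h))) ⟨kb, hB0q⟩
  have hmuA : mu A0 = 1 := hm1 A0 (((Nat.coprime_primes Fact.out hq).mpr hqp.symm).coprime_dvd_left
    (orderOf_dvd_of_pow_eq_one hA0p))
  refine hcfg.absurd lam mu (fun h => hl0 (by rw [h]; rfl)) (fun h => hm0 (by rw [h]; rfl))
    (fun h => hl0 (by rw [h, hmuA])) (fun h => hl0 ?_) ?_
  · have h1 := DFunLike.congr_fun h A0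
    rw [MonoidHom.mul_apply, hmuA, mul_one, MonoidHom.one_apply] at h1
    exact h1
  · rintro ⟨_, a, ha, rfl⟩ hla hma x ⟨⟨g, rfl⟩, hgc⟩
    have hpow : ∀ {r : ℕ}, (∃ n : ℕ, (⟨ι a, a, ha, rfl⟩ : AR) ^ n ≠ 1 ∧ ∃ k, ((⟨ι a, a, ha, rfl⟩ : AR) ^ n) ^ r ^ k = 1) →
        ∃ n : ℕ, a ^ n ≠ 1 ∧ ∃ k, (a ^ n) ^ r ^ k = 1 := by
      rintro r ⟨n, hn, k, hk⟩
      refine ⟨n, fun h => hn (Subtype.ext (by show ι a ^ n = 1; rw [← map_pow, h, map_one])), k, hι ?_⟩
      rw [map_pow, map_pow, map_one]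
      exact congrArg Subtype.val hk
    refine ⟨g, hreg0 a ha (hpow (hl2 _ hla)) (hpow (hm2 _ hma)) ?_, rfl⟩
    rw [Subgroup.mem_centralizer_singleton_iff]
    have hgc := Subgroup.mem_centralizer_singleton_iff.mp hgc
    rw [← map_mul, ← map_mul] at hgc
    exact hι hgc

/-- **A fixed-point-free automorphism of order dividing four forces solvability.** -/
theorem isSolvable_of_fpf_four {G : Type u} [Group G] [Finite G] (φ : MulAut G) (h4 : φ ^ 4 = 1)
    (hfpf : ∀ g, φ g = g → g = 1) : Group.IsSolvable G := by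
  induction hn : Nat.card G using Nat.strong_induction_on generalizing G with
  | _ n ih =>
  subst hn
  rcases subsingleton_or_nontrivial G with hs | hs
  · infer_instance
  have hres : ∀ X : Subgroup G, IsStable φ X → X ≠ ⊤ → Group.IsSolvable X := fun X hX hXt => by
    refine ih (Nat.card X) ?_ (autRes φ X hX) (autRes_four h4 X hX)
      (fun g hg => Subtype.ext (hfpf g (congrArg Subtype.val hg))) rfl
    by_contra hge
    exact hXt (Subgroup.eq_top_of_card_eq _ (le_antisymm (Subgroup.card_le_card_group X) (not_lt.mp hge)))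
  by_cases hN : ∃ N : Subgroup G, N.Normal ∧ IsStable φ N ∧ N ≠ ⊥ ∧ N ≠ ⊤
  · obtain ⟨N, hNn, hNs, hN0, hN1⟩ := hN
    haveI := hres N hNs hN1
    haveI : Group.IsSolvable (G ⧸ N) := by
      refine ih _ ?_ (QuotientGroup.congr N N φ hNs.map_eq) (MulEquiv.ext fun x => ?_)
        (fpf_quotient φ hfpf N hNs.map_eq) rfl
      · rw [Subgroup.card_eq_card_quotient_mul_card_subgroup N]
        exact lt_mul_of_one_lt_right Nat.card_pos ((Subgroup.one_lt_card_iff_ne_bot N).mpr hN0)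
      · induction x using QuotientGroup.induction_on with
        | _ g =>
          simp only [pow_succ, pow_zero, one_mul, MulAut.mul_apply, MulAut.one_apply]
          show ((φ (φ (φ (φ g))) : G) : G ⧸ N) = g
          rw [pow_four_apply h4]
    exact Group.isSolvable_of_ker_le_range N.subtype (QuotientGroup.mk' N) (by rw [QuotientGroup.ker_mk', Subgroup.range_subtype])
  push Not at hN
  have hcomm : IsStable φ (commutator G) := fun x hx => by
    have h := Subgroup.map_commutator (⊤ : Subgroup G) ⊤ φ.toMonoidHom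
    rw [Subgroup.map_top_of_surjective _ φ.surjective, ← _root_.commutator_def] at h
    exact h.le ⟨x, hx, rfl⟩
  rcases eq_or_ne (commutator G) ⊥ with h0 | h0
  · exact Group.isSolvable_of_comm fun a b => commutatorElement_eq_one_iff_mul_comm.mp
      ((Subgroup.eq_bot_iff_forall _).mp h0 _ (Subgroup.commutator_mem_commutator (mem_top a) (mem_top b)))
  have hperf := hN (commutator G) inferInstance hcomm h0
  have hzs : IsStable φ (Subgroup.center G) := fun x hx => by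
    rw [Subgroup.mem_center_iff] at hx ⊢
    intro g
    obtain ⟨y, rfl⟩ := φ.surjective g
    rw [← map_mul, ← map_mul, hx y]
  rcases eq_or_ne (Subgroup.center G) ⊥ with hz | hz
  · exfalso
    refine Min.false (φ := φ) ⟨h4, hfpf, hperf, hz, hres, fun X hX hX0 hX1 hNt => ?_⟩
    exact hX1 (hN X (Subgroup.normalizer_eq_top_iff.mp hNt) hX hX0)
  · have hzt := hN (Subgroup.center G) inferInstance hzs hz
    exact Group.isSolvable_of_comm fun a b => Subgroup.mem_center_iff.mp (hzt ▸ mem_top b) a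

end CfsgLib.FpfFour
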