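import Cfsg.Agent.Lib.FpfFour.Local

/-!
Two Sylow normalizers meeting in the centralizer of `φ²`.
-/

set_option autoImplicit false
set_option linter.unusedSectionVars false

namespace CfsgLib.FpfFour

open Cfsg.Agent.S3794 Subgroup
open scoped Pointwise

universe u

variable {G : Type u} [Group G] [Finite G] {φ : MulAut G} (hm : Min φ)
include hm

theorem pPow_of_mem {p : ℕ} [Fact p.Prime] (P : Sylow p G) {x : G} (hx : x ∈ (P : Subgroup G)) :
    ∃ k, x ^ p ^ k = 1 := by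
  obtain ⟨i, hi⟩ := P.isPGroup' ⟨x, hx⟩
  exact ⟨i, congrArg Subtype.val hi⟩

theorem commute_inv {X : Subgroup G} (hX : IsStable φ X) (hXt : X ≠ ⊤) {p q : ℕ} [Fact p.Prime]
    [Fact q.Prime] (hpq : p ≠ q) {x y : G} (hx : x ∈ X) (hxi : Inv φ x) (hxp : ∃ k, x ^ p ^ k = 1)
    (hy : y ∈ X) (hyi : Inv φ y) (hyq : ∃ k, y ^ q ^ k = 1) : x * y = y * x :=
  commute_inverted hm.h4 hm.hfpf hX (hm.solv X hX hXt) hpq hx hxi hxp hy hyi hyq

/-- Some element of `P` fixed by `φ²` has its centralizer in `N(P)`, and `fixA φ ≤ N(P)`. -/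
theorem key_element {p : ℕ} [Fact p.Prime] (P : Sylow p G) (hP : IsStable φ (P : Subgroup G))
    {a0 : G} (ha0P : a0 ∈ (P : Subgroup G)) (ha0 : a0 ∈ fixA φ) (ha1 : a0 ≠ 1) :
    fixA φ ≤ Subgroup.normalizer ((P : Subgroup G) : Set G) ∧
      ∃ a ∈ (P : Subgroup G), a ∈ fixA φ ∧ a ≠ 1 ∧
        Subgroup.centralizer ({a} : Set G) ≤ Subgroup.normalizer ((P : Subgroup G) : Set G) := by
  have hA : ∀ a ∈ fixA φ, fixA φ ≤ Subgroup.centralizer ({a} : Set G) := fun a ha b hb =>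
    Subgroup.mem_centralizer_singleton_iff.mpr (comm_fixA hm.h4 hm.hfpf hb ha)
  by_cases hz : ∃ z ∈ (P : Subgroup G), Inv φ z ∧ z ≠ 1 ∧ ∀ y ∈ (P : Subgroup G), z * y = y * z
  · obtain ⟨z, hzP, hzi, hz1, hzc⟩ := hz
    have hzc' : φ z ∈ Subgroup.centralizer ({a0} : Set G) := by
      rw [Subgroup.mem_centralizer_singleton_iff]
      obtain ⟨y, hy, rfl⟩ := hP.surj ha0P
      rw [← map_mul, ← map_mul, hzc y hy]
    have hle := le_normalizer_of_inverted_center hm P hP hzP hzi hz1 hzc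
      (centralizer_fixA_stable hm.h4 hm.hfpf ha0) (hm.centralizer_ne_top rfl ha1)
      (Subgroup.mem_centralizer_singleton_iff.mpr (hzc a0 ha0P)) hzc'
    exact ⟨(hA a0 ha0).trans hle, a0, ha0P, ha0, ha1, hle⟩
  · push Not at hz
    haveI : Nontrivial (P : Subgroup G) := ⟨⟨⟨a0, ha0P⟩, 1, fun h => ha1 (congrArg Subtype.val h)⟩⟩
    haveI := P.isPGroup'.center_nontrivial
    obtain ⟨w, hw, hw1⟩ := (Subgroup.bot_or_exists_ne_one (Subgroup.center (P : Subgroup G))).resolve_left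
      ((Subgroup.nontrivial_iff_ne_bot _).mp inferInstance)
    have hw1' : (w : G) ≠ 1 := fun h => hw1 (Subtype.ext h)
    set Z := (P : Subgroup G) ⊓ Subgroup.centralizer ((P : Subgroup G) : Set G) with hZ
    have hwZ : (w : G) ∈ Z := ⟨w.2, Subgroup.mem_centralizer_iff.mpr fun y hy =>
      congrArg Subtype.val (Subgroup.mem_center_iff.mp hw ⟨y, hy⟩)⟩
    obtain ⟨i, a, hiZ, hi, haZ, ha, hwe⟩ := decomp hm.h4 hm.hfpf (hP.inf hP.centralizer) hwZ
    have hi1 : i = 1 := by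
      by_contra h
      obtain ⟨y, hy, hne⟩ := hz i hiZ.1 hi h
      exact hne (Subgroup.mem_centralizer_iff.mp hiZ.2 y hy).symm
    rw [hi1, one_mul] at hwe
    have hle : Subgroup.centralizer ({a} : Set G) ≤ Subgroup.normalizer ((P : Subgroup G) : Set G) :=
      le_normalizer_sylow hm P hP (centralizer_fixA_stable hm.h4 hm.hfpf ha)
        (hm.centralizer_ne_top rfl (hwe ▸ hw1')) (fun y hy =>
          Subgroup.mem_centralizer_singleton_iff.mpr (Subgroup.mem_centralizer_iff.mp haZ.2 y hy))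
    exact ⟨(hA a ha).trans hle, a, haZ.1, ha, hwe ▸ hw1', hle⟩

/-- `b` acts nontrivially on `P`. -/
def Acts (φ : MulAut G) {p q : ℕ} (P : Sylow p G) (Q : Sylow q G) : Prop :=
  ∃ b ∈ (Q : Subgroup G), b ∈ fixA φ ∧ ∃ x ∈ (P : Subgroup G), b * x ≠ x * b

/-- Some element of prime power order coprime to `p` fixed by `φ²` acts nontrivially on `P`. -/
theorem exists_acts {p : ℕ} [Fact p.Prime] (P : Sylow p G) (hP : IsStable φ (P : Subgroup G))
    (hne : (P : Subgroup G) ≠ ⊥) :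
    ∃ q : ℕ, q.Prime ∧ q ≠ p ∧ ∃ Q : Sylow q G, IsStable φ (Q : Subgroup G) ∧ Acts φ P Q := by
  by_contra hno
  push Not at hno
  obtain ⟨N, hN, hNt, hPN, hc⟩ := exists_control hm P hP hne
  set M := Subgroup.normalizer ((P : Subgroup G) : Set G) with hM
  have hMs : IsStable φ M := hP.normalizer
  have hMt := normalizer_sylow_ne_top hm P hP hne
  set D := ⁅(P : Subgroup G), (P : Subgroup G)⁆ with hD
  let H : Subgroup G :=
    { carrier := {m | m ∈ M ∧ ∀ x ∈ (P : Subgroup G), m * x * m⁻¹ * x⁻¹ ∈ D}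
      one_mem' := ⟨M.one_mem, fun x _ => by simpa using D.one_mem⟩
      mul_mem' := fun {m n} hm' hn' => ⟨M.mul_mem hm'.1 hn'.1, fun x hx => by
        have h1 := hm'.2 _ ((Subgroup.mem_normalizer_iff.mp hn'.1 x).mp hx)
        have h2 := D.mul_mem h1 (hn'.2 x hx)
        convert h2 using 1
        group⟩
      inv_mem' := fun {m} hm' => ⟨M.inv_mem hm'.1, fun x hx => by
        have h1 := hm'.2 _ ((Subgroup.mem_normalizer_iff.mp (M.inv_mem hm'.1) x).mp hx)
        have h2 := D.inv_mem h1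
        convert h2 using 1
        group⟩ }
  have hPH : (P : Subgroup G) ≤ H := fun y hy => ⟨Subgroup.le_normalizer hy, fun x hx => by
    rw [← commutatorElement_def]; exact Subgroup.commutator_mem_commutator hy hx⟩
  have htriv : ∀ m ∈ M, (∀ x ∈ (P : Subgroup G), m * x = x * m) → m ∈ H := fun m hmM h =>
    ⟨hmM, fun x hx => by rw [h x hx, mul_inv_cancel_right, mul_inv_cancel]; exact D.one_mem⟩
  have hall : ∀ m ∈ M, m ∈ H := by
    intro m hmM
    obtain ⟨i, a, hiM, hi, haM, ha, rfl⟩ := decomp hm.h4 hm.hfpf hMs hmM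
    refine H.mul_mem ?_ ?_
    · refine mem_of_primary H i fun q hq n k hk => ?_
      haveI := Fact.mk hq
      have hin := M.pow_mem hiM n
      rcases eq_or_ne q p with rfl | hqp
      · obtain ⟨O, -, hOp, hOs, -, hOm⟩ := exists_core hm.h4 hm.hfpf M hMs (hm.solv M hMs hMt) q
        exact hPH (le_sylow hm.h4 hm.hfpf P hP hOp hOs
          (hOm _ (mem_tau hm.h4 hm.hfpf M hMs hin (hi.pow n)) ⟨k, hk⟩))
      · refine htriv _ hin fun x hx => ?_
        have hle : (P : Subgroup G) ≤ Subgroup.centralizer ({i ^ n} : Set G) :=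
          (sylow_gen hm P hP).trans ((Subgroup.closure_le _).mpr fun y hy =>
            Subgroup.mem_centralizer_singleton_iff.mpr
              (commute_inv hm hMs hMt (Ne.symm hqp) (Subgroup.le_normalizer hy.1) hy.2 (pPow_of_mem hm P hy.1)
                hin (hi.pow n) ⟨k, hk⟩))
        exact (Subgroup.mem_centralizer_singleton_iff.mp (hle hx)).symm
    · refine mem_of_primary H a fun q hq n k hk => ?_
      haveI := Fact.mk hq
      have han := (fixA φ).pow_mem ha n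
      have hpg : IsPGroup q (Subgroup.zpowers (a ^ n)) := by
        rintro ⟨y, j, rfl⟩
        exact ⟨k, Subtype.ext (by
          show ((a ^ n) ^ j) ^ q ^ k = 1
          rw [← zpow_natCast ((a ^ n) ^ j), ← zpow_mul, mul_comm, zpow_mul, zpow_natCast, hk, one_zpow])⟩
      have hs : IsStable φ (Subgroup.zpowers (a ^ n)) := by
        rintro y ⟨j, rfl⟩
        show φ ((a ^ n) ^ j) ∈ _
        rw [map_zpow, apply_fixA hm.h4 hm.hfpf han, inv_zpow]
        exact inv_mem (zpow_mem (mem_zpowers _) _)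
      obtain ⟨Q, hQ⟩ := exists_sylow_stable hm.h4 hm.hfpf q
      have haQ := le_sylow hm.h4 hm.hfpf Q hQ hpg hs (mem_zpowers _)
      rcases eq_or_ne q p with rfl | hqp
      · exact hPH (le_sylow hm.h4 hm.hfpf P hP hpg hs (mem_zpowers _))
      · refine htriv _ (M.pow_mem haM n) fun x hx => ?_
        by_contra hne'
        exact hno q hq hqp Q hQ ⟨_, haQ, han, x, hx, hne'⟩
  have hNM : N ≤ M := le_normalizer_sylow hm P hP hN hNt hPN
  have hfoc : (P : Subgroup G).focalSubgroup ≤ D :=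
    CfsgLib.TransferApps.focalSubgroup_le_of_control _ M D
      (fun x hx g hg => (hc x hx g hg).imp fun n hn => ⟨hNM hn.1, hn.2⟩)
      (fun x hx n hn _ => by
        have h1 := D.inv_mem ((hall n hn).2 x hx)
        rw [commutatorElement_def]
        convert h1 using 1
        group)
  have hPD : (P : Subgroup G) ≤ D := fun x hx => hfoc (by
    rw [← Subgroup.commutator_inf_eq_focalSubgroup P, hm.perfect, top_inf_eq]; exact hx)
  haveI : Group.IsNilpotent (P : Subgroup G) := P.isPGroup'.isNilpotent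
  haveI : Nontrivial (P : Subgroup G) := (Subgroup.nontrivial_iff_ne_bot _).mpr hne
  refine (Group.IsSolvable.commutator_lt_top_of_nontrivial (G := (P : Subgroup G))).ne ?_
  refine Subgroup.map_injective (P : Subgroup G).subtype_injective ?_
  rw [commutator_def, Subgroup.map_commutator, ← MonoidHom.range_eq_map, Subgroup.range_subtype]
  exact le_antisymm (Subgroup.commutator_le_self _) hPD

/-- An element centralizing a self-centralizing subgroup of a `p`-group centralizes the group. -/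
theorem centralizes_of_sub {p : ℕ} [Fact p.Prime] (P : Sylow p G) {b : G} (hb : (orderOf b).Coprime p)
    (hbP : b ∈ Subgroup.normalizer ((P : Subgroup G) : Set G)) (P2 : Subgroup G) (hP2 : P2 ≤ (P : Subgroup G))
    (hb2 : ∀ x ∈ P2, b * x = x * b)
    (hC : ∀ x ∈ (P : Subgroup G), (∀ y ∈ P2, y * x = x * y) → x ∈ P2) :
    ∀ x ∈ (P : Subgroup G), b * x = x * b := by
  obtain ⟨S, ⟨h2S, hSP, hbS⟩, hmax⟩ := (Set.toFinite
    {S : Subgroup G | P2 ≤ S ∧ S ≤ (P : Subgroup G) ∧ ∀ x ∈ S, b * x = x * b}).exists_maximal ⟨P2, le_rfl, hP2, hb2⟩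
  suffices (P : Subgroup G) ≤ S from fun x hx => hbS x (this hx)
  by_contra hle
  haveI : Group.IsNilpotent (P : Subgroup G) := P.isPGroup'.isNilpotent
  have hlt : S.subgroupOf (P : Subgroup G) < ⊤ :=
    lt_top_iff_ne_top.mpr fun e => hle (Subgroup.subgroupOf_eq_top.mp e)
  obtain ⟨x, hx, hxn⟩ := SetLike.exists_of_lt (Group.normalizerCondition_of_isNilpotent _ hlt)
  have hxS : ∀ s ∈ S, (x : G) * s * (x : G)⁻¹ ∈ S := fun s hs =>
    (Subgroup.mem_normalizer_iff.mp hx ⟨s, hSP hs⟩).mp hs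
  have hxy : b * x * b⁻¹ ∈ (P : Subgroup G) := (Subgroup.mem_normalizer_iff.mp hbP x).mp x.2
  set c := (x : G)⁻¹ * (b * x * b⁻¹) with hcdef
  have hc : c ∈ P2 := by
    refine hC c ((P : Subgroup G).mul_mem ((P : Subgroup G).inv_mem x.2) hxy) fun s hs => ?_
    have hs' := h2S hs
    have h1 := hbS _ (hxS s hs')
    have h2 : b * s * b⁻¹ = s := by rw [hbS s hs', mul_inv_cancel_right]
    have h3 : (b * x * b⁻¹) * s * (b * x * b⁻¹)⁻¹ = x * s * (x : G)⁻¹ := by
      calc (b * x * b⁻¹) * s * (b * x * b⁻¹)⁻¹ = (b * x * b⁻¹) * (b * s * b⁻¹) * (b * x * b⁻¹)⁻¹ := by rw [h2]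
        _ = b * (x * s * (x : G)⁻¹) * b⁻¹ := by group
        _ = _ := by rw [h1, mul_inv_cancel_right]
    calc s * c = (x : G)⁻¹ * (x * s * (x : G)⁻¹) * (b * x * b⁻¹) := by rw [hcdef]; group
      _ = (x : G)⁻¹ * ((b * x * b⁻¹) * s * (b * x * b⁻¹)⁻¹) * (b * x * b⁻¹) := by rw [h3]
      _ = c * s := by rw [hcdef]; group
  have hbc : Commute b c := hb2 c hc
  have hbx : b * x * b⁻¹ = x * c := by rw [hcdef, mul_inv_cancel_left]
  have hpow : ∀ k : ℕ, b ^ k * x * (b ^ k)⁻¹ = x * c ^ k := fun k => by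
    induction k with
    | zero => simp
    | succ k ih =>
      rw [pow_succ', mul_inv_rev, show b * b ^ k * x * ((b ^ k)⁻¹ * b⁻¹) = b * (b ^ k * x * (b ^ k)⁻¹) * b⁻¹ by group,
        ih, show b * (x * c ^ k) * b⁻¹ = (b * x * b⁻¹) * (b * c ^ k * b⁻¹) by group, hbx,
        (hbc.pow_right k).eq, mul_inv_cancel_right, mul_assoc, ← pow_succ']
  have hck := hpow (orderOf b)
  rw [pow_orderOf_eq_one, one_mul, inv_one, mul_one, left_eq_mul] at hck
  obtain ⟨i, hi⟩ := pPow_of_mem hm P (hP2 hc)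
  have hc1 : c = 1 := orderOf_eq_one_iff.mp (Nat.eq_one_of_dvd_coprimes (hb.pow_right i)
    (orderOf_dvd_of_pow_eq_one hck) (orderOf_dvd_of_pow_eq_one hi))
  rw [hc1, mul_one, mul_inv_eq_iff_eq_mul] at hbx
  refine hxn (Subgroup.mem_subgroupOf.mpr (hmax ⟨h2S.trans le_sup_left,
    sup_le hSP ((Subgroup.zpowers_le).mpr x.2), ?_⟩ le_sup_left (Subgroup.mem_sup_right (mem_zpowers (x : G)))))
  intro y hy
  have hle' : S ⊔ Subgroup.zpowers (x : G) ≤ Subgroup.centralizer ({b} : Set G) :=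
    sup_le (fun s hs => Subgroup.mem_centralizer_singleton_iff.mpr (hbS s hs).symm)
      (Subgroup.zpowers_le.mpr (Subgroup.mem_centralizer_singleton_iff.mpr hbx.symm))
  exact (Subgroup.mem_centralizer_singleton_iff.mp (hle' hy)).symm

theorem orderOf_coprime_of_mem {p q : ℕ} [Fact p.Prime] [Fact q.Prime] (hqp : q ≠ p) (Q : Sylow q G) {b : G}
    (hb : b ∈ (Q : Subgroup G)) : (orderOf b).Coprime p := by
  obtain ⟨k, hk⟩ := pPow_of_mem hm Q hb
  exact (((Nat.coprime_primes (Fact.out : q.Prime) (Fact.out : p.Prime)).mpr hqp).pow_left k).coprime_dvd_left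
    (orderOf_dvd_of_pow_eq_one hk)

/-- If `Q` acts on `P` then `P ∩ N(Q)` is fixed by `φ²`. -/
theorem inf_normalizer_le {p q : ℕ} [Fact p.Prime] [Fact q.Prime] (hpq : p ≠ q) (P : Sylow p G)
    (hP : IsStable φ (P : Subgroup G)) (Q : Sylow q G) (hQ : IsStable φ (Q : Subgroup G))
    (hA : fixA φ ≤ Subgroup.normalizer ((P : Subgroup G) : Set G)) (hact : Acts φ P Q) :
    (P : Subgroup G) ⊓ Subgroup.normalizer ((Q : Subgroup G) : Set G) ≤ fixA φ := by
  obtain ⟨b, hbQ, hbA, x0, hx0, hne⟩ := hact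
  have hQne : (Q : Subgroup G) ≠ ⊥ := fun h => hne (by
    rw [(Subgroup.eq_bot_iff_forall _).mp h _ (hbQ)]; simp)
  set L := Subgroup.normalizer ((Q : Subgroup G) : Set G) with hL
  have hLs : IsStable φ L := hQ.normalizer
  have hLt := normalizer_sylow_ne_top hm Q hQ hQne
  intro g hg
  obtain ⟨i, a, hiX, hi, haX, ha, rfl⟩ := decomp hm.h4 hm.hfpf (hP.inf hLs) hg
  suffices i = 1 by rw [this, one_mul]; exact ha
  by_contra hi1
  have hQcomm : ∀ w ∈ (P : Subgroup G) ⊓ L, Inv φ w →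
      (Q : Subgroup G) ≤ Subgroup.centralizer ({w} : Set G) := fun w hw hwi =>
    (sylow_gen hm Q hQ).trans ((Subgroup.closure_le _).mpr fun y hy =>
      Subgroup.mem_centralizer_singleton_iff.mpr
        (commute_inv hm hLs hLt (Ne.symm hpq) (Subgroup.le_normalizer hy.1) hy.2 (pPow_of_mem hm Q hy.1)
          hw.2 hwi (pPow_of_mem hm P hw.1)))
  set W := Subgroup.closure {w | w ∈ (P : Subgroup G) ⊓ L ∧ Inv φ w} with hW
  have hWs : IsStable φ W := IsStable.closure fun w hw =>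
    Subgroup.subset_closure ⟨hP.inf hLs w hw.1, hw.2.map⟩
  have hiW : i ∈ W := Subgroup.subset_closure ⟨hiX, hi⟩
  have hQW : (Q : Subgroup G) ≤ Subgroup.centralizer (W : Set G) := by
    rw [Subgroup.le_centralizer_iff, hW, Subgroup.closure_le]
    exact fun w hw y hy => Subgroup.mem_centralizer_singleton_iff.mp (hQcomm w hw.1 hw.2 hy)
  have hCW := centralizer_le_normalizer hm Q hQ hWs (fun h => hi1 ((Subgroup.eq_bot_iff_forall _).mp h _ (hiW))) hQW
  refine hne (centralizes_of_sub hm P (orderOf_coprime_of_mem hm hpq.symm Q hbQ) (hA hbA)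
    ((P : Subgroup G) ⊓ L) inf_le_left (fun w hw => ?_) (fun w hw hwc => ⟨hw, hCW ?_⟩) x0 hx0)
  · obtain ⟨j, c, hjX, hj, -, hc, rfl⟩ := decomp hm.h4 hm.hfpf (hP.inf hLs) hw
    have h1 : Commute b j := Subgroup.mem_centralizer_singleton_iff.mp (hQcomm j hjX hj hbQ)
    exact h1.mul_right (comm_fixA hm.h4 hm.hfpf hbA hc)
  · rw [hW, Subgroup.centralizer_closure, Subgroup.mem_centralizer_iff]
    exact fun y hy => hwc y hy.1

/-- The action is symmetric. -/
theorem acts_symm {p q : ℕ} [Fact p.Prime] [Fact q.Prime] (hpq : p ≠ q) (P : Sylow p G)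
    (hP : IsStable φ (P : Subgroup G)) (Q : Sylow q G) (hQ : IsStable φ (Q : Subgroup G))
    {a0 : G} (ha0P : a0 ∈ (P : Subgroup G)) (ha0 : a0 ∈ fixA φ) (ha1 : a0 ≠ 1) (hact : Acts φ P Q) :
    Acts φ Q P := by
  by_contra hno
  obtain ⟨hA, a, haP, haA, ha', hCa⟩ := key_element hm P hP ha0P ha0 ha1
  have hPne : (P : Subgroup G) ≠ ⊥ := fun h => ha' ((Subgroup.eq_bot_iff_forall _).mp h _ (haP))
  have hQM : (Q : Subgroup G) ≤ Subgroup.normalizer ((P : Subgroup G) : Set G) := fun y hy => hCa (by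
    rw [Subgroup.mem_centralizer_singleton_iff]
    by_contra hne
    exact hno ⟨a, haP, haA, y, hy, fun h => hne h.symm⟩)
  have hML := le_normalizer_sylow hm Q hQ hP.normalizer (normalizer_sylow_ne_top hm P hP hPne) hQM
  have hPA : (P : Subgroup G) ≤ fixA φ := fun x hx =>
    inf_normalizer_le hm hpq P hP Q hQ hA hact ⟨hx, hML (Subgroup.le_normalizer hx)⟩
  refine hPne (le_bot_iff.mp ((sylow_gen hm P hP).trans ((Subgroup.closure_le _).mpr fun x hx => ?_)))
  exact Subgroup.mem_bot.mpr (eq_one_of_inv_fixA hm.h4 hm.hfpf hx.2 (hPA hx.1))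

/-- Two normalizers meet in `fixA φ`. -/
theorem normalizer_inf_le {p q : ℕ} [Fact p.Prime] [Fact q.Prime] (hpq : p ≠ q) (P : Sylow p G)
    (hP : IsStable φ (P : Subgroup G)) (Q : Sylow q G) (hQ : IsStable φ (Q : Subgroup G))
    (hAP : fixA φ ≤ Subgroup.normalizer ((P : Subgroup G) : Set G))
    (hAQ : fixA φ ≤ Subgroup.normalizer ((Q : Subgroup G) : Set G))
    (h1 : Acts φ P Q) (h2 : Acts φ Q P) :
    Subgroup.normalizer ((P : Subgroup G) : Set G) ⊓ Subgroup.normalizer ((Q : Subgroup G) : Set G) ≤ fixA φ := by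
  have hPne : (P : Subgroup G) ≠ ⊥ := by
    obtain ⟨b, hb, -, x, -, hne⟩ := h2
    exact fun h => hne (by rw [(Subgroup.eq_bot_iff_forall _).mp h _ (hb)]; simp)
  have hQne : (Q : Subgroup G) ≠ ⊥ := by
    obtain ⟨b, hb, -, x, -, hne⟩ := h1
    exact fun h => hne (by rw [(Subgroup.eq_bot_iff_forall _).mp h _ (hb)]; simp)
  set M := Subgroup.normalizer ((P : Subgroup G) : Set G) with hM
  set L := Subgroup.normalizer ((Q : Subgroup G) : Set G) with hL
  have hMs : IsStable φ M := hP.normalizer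
  have hLs : IsStable φ L := hQ.normalizer
  have hMt := normalizer_sylow_ne_top hm P hP hPne
  have hLt := normalizer_sylow_ne_top hm Q hQ hQne
  intro g hg
  obtain ⟨i, a, hiX, hi, haX, ha, rfl⟩ := decomp hm.h4 hm.hfpf (hMs.inf hLs) hg
  suffices i = 1 by rw [this, one_mul]; exact ha
  refine Subgroup.mem_bot.mp (mem_of_primary ⊥ i fun r hr n k hk => Subgroup.mem_bot.mpr ?_)
  haveI := Fact.mk hr
  by_contra hy1
  set y := i ^ n with hy
  have hyM : y ∈ M := M.pow_mem hiX.1 n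
  have hyL : y ∈ L := L.pow_mem hiX.2 n
  have hyi : Inv φ y := hi.pow n
  rcases eq_or_ne r p with rfl | hrp
  · obtain ⟨O, -, hOp, hOs, -, hOm⟩ := exists_core hm.h4 hm.hfpf M hMs (hm.solv M hMs hMt) r
    have hyP := le_sylow hm.h4 hm.hfpf P hP hOp hOs (hOm _ (mem_tau hm.h4 hm.hfpf M hMs hyM hyi) ⟨k, hk⟩)
    exact hy1 (eq_one_of_inv_fixA hm.h4 hm.hfpf hyi (inf_normalizer_le hm hpq P hP Q hQ hAP h1 ⟨hyP, hyL⟩))
  rcases eq_or_ne r q with rfl | hrq
  · obtain ⟨O, -, hOp, hOs, -, hOm⟩ := exists_core hm.h4 hm.hfpf L hLs (hm.solv L hLs hLt) r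
    have hyQ := le_sylow hm.h4 hm.hfpf Q hQ hOp hOs (hOm _ (mem_tau hm.h4 hm.hfpf L hLs hyL hyi) ⟨k, hk⟩)
    exact hy1 (eq_one_of_inv_fixA hm.h4 hm.hfpf hyi (inf_normalizer_le hm hpq.symm Q hQ P hP hAQ h2 ⟨hyQ, hyM⟩))
  set R := Subgroup.closure {w | w ∈ M ⊓ L ∧ Inv φ w ∧ ∃ j, w ^ r ^ j = 1} with hR
  have hRs : IsStable φ R := IsStable.closure fun w hw => Subgroup.subset_closure
    ⟨hMs.inf hLs w hw.1, hw.2.1.map, hw.2.2.imp fun j hj => by rw [← map_pow, hj, map_one]⟩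
  have hR1 : R ≠ ⊥ := fun h => hy1 (Subgroup.mem_bot.mp
    (h ▸ (Subgroup.subset_closure ⟨⟨hyM, hyL⟩, hyi, k, hk⟩ : y ∈ R)))
  have hPR : (P : Subgroup G) ≤ Subgroup.centralizer (R : Set G) := by
    refine (sylow_gen hm P hP).trans ((Subgroup.closure_le _).mpr fun x hx => ?_)
    rw [hR, SetLike.mem_coe, Subgroup.centralizer_closure, Subgroup.mem_centralizer_iff]
    exact fun w hw => (commute_inv hm hMs hMt (Ne.symm hrp) (Subgroup.le_normalizer hx.1) hx.2
      (pPow_of_mem hm P hx.1) hw.1.1 hw.2.1 hw.2.2).symm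
  have hQR : (Q : Subgroup G) ≤ Subgroup.centralizer (R : Set G) := by
    refine (sylow_gen hm Q hQ).trans ((Subgroup.closure_le _).mpr fun x hx => ?_)
    rw [hR, SetLike.mem_coe, Subgroup.centralizer_closure, Subgroup.mem_centralizer_iff]
    exact fun w hw => (commute_inv hm hLs hLt (Ne.symm hrq) (Subgroup.le_normalizer hx.1) hx.2
      (pPow_of_mem hm Q hx.1) hw.1.2 hw.2.1 hw.2.2).symm
  have hPA : (P : Subgroup G) ≤ fixA φ := fun x hx => inf_normalizer_le hm hpq P hP Q hQ hAP h1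
    ⟨hx, centralizer_le_normalizer hm Q hQ hRs hR1 hQR (hPR hx)⟩
  refine hPne (le_bot_iff.mp ((sylow_gen hm P hP).trans ((Subgroup.closure_le _).mpr fun x hx => ?_)))
  exact Subgroup.mem_bot.mpr (eq_one_of_inv_fixA hm.h4 hm.hfpf hx.2 (hPA hx.1))

/-- `P ∩ fixA φ` is cyclic when `P` and `Q` act on each other. -/
theorem isCyclic_fixed {p q : ℕ} [Fact p.Prime] [Fact q.Prime] (hpq : p ≠ q) (P : Sylow p G)
    (hP : IsStable φ (P : Subgroup G)) (Q : Sylow q G) (hQ : IsStable φ (Q : Subgroup G))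
    (hAP : fixA φ ≤ Subgroup.normalizer ((P : Subgroup G) : Set G))
    (hAQ : fixA φ ≤ Subgroup.normalizer ((Q : Subgroup G) : Set G))
    (h1 : Acts φ P Q) : IsCyclic ↥((P : Subgroup G) ⊓ fixA φ) := by
  by_contra hnc
  set A := (P : Subgroup G) ⊓ fixA φ with hA
  haveI : IsMulCommutative A := ⟨⟨fun a b => Subtype.ext (comm_fixA hm.h4 hm.hfpf a.2.2 b.2.2)⟩⟩
  have hPne : (P : Subgroup G) ≠ ⊥ := fun h => hnc (by
    haveI : Subsingleton A := ⟨fun a b => Subtype.ext (by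
      rw [(Subgroup.eq_bot_iff_forall _).mp h _ (a.2.1), (Subgroup.eq_bot_iff_forall _).mp h _ (b.2.1)])⟩
    exact isCyclic_of_subsingleton)
  have hAne : ¬ (P : Subgroup G) ≤ A := fun h => hPne (le_bot_iff.mp ((sylow_gen hm P hP).trans
    ((Subgroup.closure_le _).mpr fun x hx => Subgroup.mem_bot.mpr
      (eq_one_of_inv_fixA hm.h4 hm.hfpf hx.2 (h hx.1).2))))
  -- an inverted element of `P` centralizing `A`
  obtain ⟨x0, hx0P, hx0i, hx0c, hx01⟩ : ∃ x ∈ (P : Subgroup G), Inv φ x ∧ (∀ a ∈ A, a * x = x * a) ∧ x ≠ 1 := by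
    haveI : Group.IsNilpotent (P : Subgroup G) := P.isPGroup'.isNilpotent
    have hlt : A.subgroupOf (P : Subgroup G) < ⊤ :=
      lt_top_iff_ne_top.mpr fun e => hAne (Subgroup.subgroupOf_eq_top.mp e)
    obtain ⟨g, hg, hgn⟩ := SetLike.exists_of_lt (Group.normalizerCondition_of_isNilpotent _ hlt)
    obtain ⟨i, c, hiP, hi, hcP, hc, hge⟩ := decomp hm.h4 hm.hfpf hP g.2
    refine ⟨i, hiP, hi, fun a ha => ?_, fun h => hgn (Subgroup.mem_subgroupOf.mpr ⟨g.2, ?_⟩)⟩
    · have h1 : (g : G) * a * (g : G)⁻¹ ∈ A := (Subgroup.mem_normalizer_iff.mp hg ⟨a, ha.1⟩).mp ha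
      have h2 := fusion hm.h4 hm.hfpf ha.2 h1.2 rfl
      rw [hge] at h2
      have h3 : i * a * i⁻¹ = a := by
        conv_rhs => rw [h2]
        rw [show i * c * a * (i * c)⁻¹ = i * (c * a * c⁻¹) * i⁻¹ by group, comm_fixA hm.h4 hm.hfpf hc ha.2,
          mul_inv_cancel_right]
      exact (mul_inv_eq_iff_eq_mul.mp h3).symm
    · rw [hge, h, one_mul]; exact hc
  set X0 := Subgroup.closure {x | x ∈ (P : Subgroup G) ∧ Inv φ x ∧ ∀ a ∈ A, a * x = x * a} with hX0
  have hX0s : IsStable φ X0 := IsStable.closure fun x hx => Subgroup.subset_closure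
    ⟨hP x hx.1, hx.2.1.map, fun a ha => by
      obtain ⟨a', ha', rfl⟩ := (hP.inf fixA_stable).surj ha
      rw [← map_mul, ← map_mul, hx.2.2 a' ha']⟩
  have hx0X : x0 ∈ X0 := Subgroup.subset_closure ⟨hx0P, hx0i, hx0c⟩
  have hX0P : X0 ≤ (P : Subgroup G) := (Subgroup.closure_le _).mpr fun x hx => hx.1
  set T := Subgroup.normalizer (X0 : Set G) with hT
  have hTt : T ≠ ⊤ := hm.proper X0 hX0s (fun h => hx01 ((Subgroup.eq_bot_iff_forall _).mp h _ (hx0X)))
    (fun h => sylow_ne_top hm P hPne (top_le_iff.mp (h ▸ hX0P)))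
  have hAT : fixA φ ≤ T := by
    intro b hb
    have hconj : ∀ c ∈ fixA φ, ∀ x ∈ X0, c * x * c⁻¹ ∈ X0 := by
      intro c hc x hx
      have hle : X0 ≤ X0.comap (MulAut.conj c).toMonoidHom := (Subgroup.closure_le _).mpr fun w hw => by
        refine Subgroup.subset_closure ⟨(Subgroup.mem_normalizer_iff.mp (hAP hc) w).mp hw.1, hw.2.1.conj_fixed hc,
          fun a ha => ?_⟩
        have e : c * a * c⁻¹ = a := by rw [comm_fixA hm.h4 hm.hfpf hc ha.2, mul_inv_cancel_right]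
        show a * (c * w * c⁻¹) = c * w * c⁻¹ * a
        calc a * (c * w * c⁻¹) = (c * a * c⁻¹) * (c * w * c⁻¹) := by rw [e]
          _ = c * (a * w) * c⁻¹ := by group
          _ = c * (w * a) * c⁻¹ := by rw [hw.2.2 a ha]
          _ = c * w * c⁻¹ * (c * a * c⁻¹) := by group
          _ = _ := by rw [e]
      exact hle hx
    rw [hT, Subgroup.mem_normalizer_iff]
    refine fun x => ⟨hconj b hb x, fun hx => ?_⟩
    have := hconj b⁻¹ (inv_mem hb) _ hx
    simpa [mul_assoc] using this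
  obtain ⟨j, hj⟩ := Q.isPGroup'.exists_card_eq
  obtain ⟨l, hl⟩ := (P.isPGroup'.to_le (inf_le_left : A ≤ _)).exists_card_eq
  have hgen := CfsgLib.coprime_generated_by_centralizers (A := A) (K := (Q : Subgroup G)) hnc
    (inf_le_right.trans hAQ) (by
      rw [hl, hj]; exact Nat.Coprime.pow l j ((Nat.coprime_primes Fact.out Fact.out).mpr hpq))
  have hQT : (Q : Subgroup G) ≤ T := by
    rw [← hgen]
    refine iSup₂_le fun e he g hg => ?_
    obtain ⟨i, c, hiX, hi, hcX, hc, rfl⟩ := decomp hm.h4 hm.hfpf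
      (hQ.inf (centralizer_fixA_stable hm.h4 hm.hfpf he.1.2)) hg
    refine T.mul_mem ((show Subgroup.centralizer (X0 : Set G) ≤ T from hT ▸ Subgroup.centralizer_le_normalizer _) ?_) (hAT hc)
    rw [hX0, Subgroup.centralizer_closure, Subgroup.mem_centralizer_iff]
    exact fun x hx => commute_inv hm (centralizer_fixA_stable hm.h4 hm.hfpf he.1.2)
      (hm.centralizer_ne_top rfl he.2) hpq
      (Subgroup.mem_centralizer_singleton_iff.mpr (hx.2.2 e he.1).symm) hx.2.1 (pPow_of_mem hm P hx.1)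
      hiX.2 hi (pPow_of_mem hm Q hiX.1)
  have hx0L := le_normalizer_sylow hm Q hQ hX0s.normalizer hTt hQT (Subgroup.le_normalizer hx0X)
  exact hx01 (eq_one_of_inv_fixA hm.h4 hm.hfpf hx0i (inf_normalizer_le hm hpq P hP Q hQ hAP h1 ⟨hx0P, hx0L⟩))

/-- Every nontrivial element of `P ∩ fixA φ` has centralizer in `N(P)`. -/
theorem centralizer_le {p q : ℕ} [Fact p.Prime] [Fact q.Prime] (hpq : p ≠ q) (P : Sylow p G)
    (hP : IsStable φ (P : Subgroup G)) (Q : Sylow q G) (hQ : IsStable φ (Q : Subgroup G))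
    (hAP : fixA φ ≤ Subgroup.normalizer ((P : Subgroup G) : Set G))
    (hAQ : fixA φ ≤ Subgroup.normalizer ((Q : Subgroup G) : Set G))
    (h1 : Acts φ P Q) {a : G} (haP : a ∈ (P : Subgroup G)) (haA : a ∈ fixA φ) (ha1 : a ≠ 1) :
    Subgroup.centralizer ({a} : Set G) ≤ Subgroup.normalizer ((P : Subgroup G) : Set G) := by
  have hcyc := isCyclic_fixed hm hpq P hP Q hQ hAP hAQ h1
  by_cases hz : ∃ z ∈ (P : Subgroup G), Inv φ z ∧ z ≠ 1 ∧ ∀ y ∈ (P : Subgroup G), z * y = y * z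
  · obtain ⟨z, hzP, hzi, hz1, hzc⟩ := hz
    refine le_normalizer_of_inverted_center hm P hP hzP hzi hz1 hzc
      (centralizer_fixA_stable hm.h4 hm.hfpf haA) (hm.centralizer_ne_top rfl ha1)
      (Subgroup.mem_centralizer_singleton_iff.mpr (hzc a haP)) ?_
    rw [Subgroup.mem_centralizer_singleton_iff]
    obtain ⟨y, hy, rfl⟩ := hP.surj haP
    rw [← map_mul, ← map_mul, hzc y hy]
  · push Not at hz
    haveI : Nontrivial (P : Subgroup G) := ⟨⟨⟨a, haP⟩, 1, fun h => ha1 (congrArg Subtype.val h)⟩⟩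
    haveI := P.isPGroup'.center_nontrivial
    obtain ⟨w, hw, hw1⟩ := (Subgroup.bot_or_exists_ne_one (Subgroup.center (P : Subgroup G))).resolve_left
      ((Subgroup.nontrivial_iff_ne_bot _).mp inferInstance)
    have hw1' : (w : G) ≠ 1 := fun h => hw1 (Subtype.ext h)
    have hwc : ∀ y ∈ (P : Subgroup G), y * (w : G) = w * y := fun y hy =>
      congrArg Subtype.val (Subgroup.mem_center_iff.mp hw ⟨y, hy⟩)
    obtain ⟨i, c, hiZ, hi, hcZ, hc, hwe⟩ := decomp hm.h4 hm.hfpf (hP.inf hP.centralizer)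
      (show (w : G) ∈ (P : Subgroup G) ⊓ Subgroup.centralizer ((P : Subgroup G) : Set G) from
        ⟨w.2, Subgroup.mem_centralizer_iff.mpr hwc⟩)
    have hi1 : i = 1 := by
      by_contra h
      obtain ⟨y, hy, hne⟩ := hz i hiZ.1 hi h
      exact hne (Subgroup.mem_centralizer_iff.mp hiZ.2 y hy).symm
    rw [hi1, one_mul] at hwe
    -- a nontrivial element common to `⟨a⟩` and `⟨c⟩`
    obtain ⟨u, hu1, hua, huc⟩ : ∃ u : G, u ≠ 1 ∧ u ∈ Subgroup.zpowers a ∧ u ∈ Subgroup.zpowers c := by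
      obtain ⟨g, hg⟩ := hcyc.exists_generator
      obtain ⟨m, hm'⟩ := hg ⟨a, haP, haA⟩
      obtain ⟨n, hn'⟩ := hg ⟨c, hcZ.1, hc⟩
      have hga : (g : G) ^ m = a := congrArg Subtype.val hm'
      have hgc : (g : G) ^ n = c := congrArg Subtype.val hn'
      obtain ⟨k, hk⟩ := pPow_of_mem hm P g.2.1
      have hpow : ∀ x : G, x ≠ 1 → x ∈ Subgroup.zpowers (g : G) →
          ∃ v, v ≠ 1 ∧ v ∈ Subgroup.zpowers x ∧ v ^ p = 1 := fun x hx hxg => by
        obtain ⟨j, rfl⟩ := hxg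
        have hd : orderOf ((g : G) ^ j) ∣ p ^ k := by
          refine orderOf_dvd_of_pow_eq_one ?_
          rw [← zpow_natCast, ← zpow_mul, mul_comm, zpow_mul, zpow_natCast, hk, one_zpow]
        obtain ⟨l, -, hl⟩ := (Nat.dvd_prime_pow (Fact.out : p.Prime)).mp hd
        obtain ⟨l', rfl⟩ : ∃ l', l = l' + 1 := ⟨l - 1, by
          rcases l with _ | l
          · exact absurd (orderOf_eq_one_iff.mp (hl.trans (pow_zero p))) hx
          · simp⟩
        refine ⟨((g : G) ^ j) ^ p ^ l', fun h => ?_, pow_mem (mem_zpowers _) _, ?_⟩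
        · have := orderOf_dvd_of_pow_eq_one h
          rw [hl, Nat.pow_dvd_pow_iff_le_right (Fact.out : p.Prime).one_lt] at this
          omega
        · rw [← pow_mul, ← pow_succ, ← hl, pow_orderOf_eq_one]
      obtain ⟨u, hu1, hua, hup⟩ := hpow a ha1 ⟨m, hga⟩
      obtain ⟨v, hv1, hvc, hvp⟩ := hpow c (hwe ▸ hw1') ⟨n, hgc⟩
      refine ⟨u, hu1, hua, ?_⟩
      have huG : u ∈ Subgroup.zpowers (g : G) := (Subgroup.zpowers_le.mpr (show a ∈ Subgroup.zpowers (g : G) from ⟨m, hga⟩)) hua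
      have hvG : v ∈ Subgroup.zpowers (g : G) := (Subgroup.zpowers_le.mpr (show c ∈ Subgroup.zpowers (g : G) from ⟨n, hgc⟩)) hvc
      have hov := orderOf_eq_prime hvp hv1
      have hou := orderOf_eq_prime hup hu1
      classical
      haveI : Fintype (Subgroup.zpowers (g : G)) := Fintype.ofFinite _
      set H := Subgroup.zpowers (⟨v, hvG⟩ : Subgroup.zpowers (g : G)) with hH
      have hcardH : Nat.card H = p := by rw [hH, Nat.card_zpowers, Subgroup.orderOf_mk, hov]
      have hmem : (⟨u, huG⟩ : Subgroup.zpowers (g : G)) ∈ H := by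
        by_contra hnu
        have hle := IsCyclic.card_pow_eq_one_le (α := Subgroup.zpowers (g : G)) (Fact.out : p.Prime).pos
        have hsub : insert (⟨u, huG⟩ : Subgroup.zpowers (g : G)) (Finset.univ.filter fun x => x ∈ H) ⊆
            Finset.univ.filter fun x : Subgroup.zpowers (g : G) => x ^ p = 1 := by
          intro x hx
          rcases Finset.mem_insert.mp hx with rfl | hx
          · exact Finset.mem_filter.mpr ⟨Finset.mem_univ _, Subtype.ext hup⟩
          · refine Finset.mem_filter.mpr ⟨Finset.mem_univ _, ?_⟩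
            have h1 := (Finset.mem_filter.mp hx).2
            have h2 := congrArg Subtype.val (pow_card_eq_one' (x := (⟨x, h1⟩ : H)))
            simp only [hcardH] at h2
            exact h2
        have hc2 := (Finset.card_le_card hsub).trans hle
        rw [Finset.card_insert_of_notMem (by simpa using hnu), ← Fintype.card_subtype,
          ← Nat.card_eq_fintype_card, hcardH] at hc2
        omega
      obtain ⟨t, ht⟩ := hmem
      exact (Subgroup.zpowers_le.mpr hvc) ⟨t, congrArg Subtype.val ht⟩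
    refine le_trans ?_ (le_normalizer_sylow hm P hP
      (centralizer_fixA_stable hm.h4 hm.hfpf ((Subgroup.zpowers_le.mpr haA) hua)) (hm.centralizer_ne_top rfl hu1) ?_)
    · intro x hx
      rw [Subgroup.mem_centralizer_singleton_iff] at hx ⊢
      obtain ⟨t, rfl⟩ := hua
      exact (show Commute x a from hx).zpow_right t
    · intro y hy
      rw [Subgroup.mem_centralizer_singleton_iff]
      obtain ⟨t, rfl⟩ := huc
      exact (show Commute y c from hwe ▸ hwc y hy).zpow_right t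

end CfsgLib.FpfFour
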